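import Mathlib
import Cfsg.Agent.Lib.Solvable.Basic

/-!
# Fixed points in transitive solvable groups generated by the conjugates of an element of prime order `> 3`

`three_mul_fixed_le`: such an element fixes at most a third of the points.
-/

set_option autoImplicit false
set_option linter.style.haveILetI false

namespace Cfsg.Agent.FixedDim

open Subgroup

variable {G : Type*} [Group G] [Finite G] {p : ℕ} {x : G}

theorem conj_pow_eq {z n x : G} (hz : x * z = z * x) (h : x * n * x⁻¹ = z * n) (k : ℕ) :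
    x ^ k * n * (x ^ k)⁻¹ = z ^ k * n := by
  induction k with
  | zero => simp
  | succ k ih =>
    rw [pow_succ' x, mul_inv_rev, show x * x ^ k * n * ((x ^ k)⁻¹ * x⁻¹) = x * (x ^ k * n * (x ^ k)⁻¹) * x⁻¹ by
      group, ih, ← mul_assoc, ((show Commute x z from hz).pow_right k).eq, mul_assoc (z ^ k), mul_assoc (z ^ k),
      h, pow_succ]
    group

theorem fixed_coset_le [Group.IsSolvable G] [Fact p.Prime] (hp : 3 < p) (hx : orderOf x = p)
    (hgen : normalClosure ({x} : Set G) = ⊤) {M : Subgroup G} (hM : IsCoatom M) (hxM : x ∈ M) :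
    3 * Nat.card {c : G ⧸ M // x • c = c} ≤ M.index := by
  classical
  set C := M.normalCore with hC
  have hCM : C ≤ M := normalCore_le M
  set π := QuotientGroup.mk' C
  have hπ : ∀ g : G, π g = 1 ↔ g ∈ C := fun g => QuotientGroup.eq_one_iff g
  have hxgen : ∀ K : Subgroup G, K.Normal → x ∈ K → K = ⊤ := fun K hK hxK =>
    top_le_iff.mp (hgen ▸ normalClosure_le_normal (Set.singleton_subset_iff.mpr hxK))
  have hCtop : C ≠ ⊤ := fun h => hM.1 (top_le_iff.mp (h ▸ hCM))
  haveI : Nontrivial (G ⧸ C) := QuotientGroup.nontrivial_iff.mpr hCtop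
  obtain ⟨N', hN'n, -, hN'ne, hmin⟩ := Solvable.exists_minimal_normal (G := G ⧸ C) (K := ⊤) top_ne_bot
  haveI := hN'n
  haveI hN'c : IsMulCommutative N' := Solvable.isMulCommutative_of_minimal inferInstance hN'ne hmin
  set N := N'.comap π with hN
  have hNM : ¬ N ≤ M := by
    intro h
    have h1 : N ≤ C := normal_le_normalCore.mpr h
    apply hN'ne
    rw [eq_bot_iff]
    intro y hy
    obtain ⟨g, rfl⟩ := QuotientGroup.mk'_surjective C y
    exact mem_bot.mpr ((hπ g).mpr (h1 hy))
  have hsup : N ⊔ M = ⊤ := hM.2 _ (lt_of_le_of_ne le_sup_right fun h => hNM (h ▸ le_sup_left))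
  have hinf : N ⊓ M ≤ C := by
    haveI : (N ⊓ M).Normal := by
      rw [← normalizer_eq_top_iff, eq_top_iff, ← hsup, sup_le_iff]
      have key : ∀ n ∈ N, ∀ a ∈ N ⊓ M, n * a * n⁻¹ ∈ N ⊓ M := by
        intro n hn a ha
        have hc : n * a * n⁻¹ * a⁻¹ ∈ C := by
          have := congrArg Subtype.val (mul_comm' (⟨π n, hn⟩ : N') ⟨π a, ha.1⟩)
          rw [← hπ, map_mul, map_mul, map_mul, map_inv, map_inv]
          rw [show π n * π a = π a * π n from this]
          group
        refine Subgroup.mem_inf.mpr ⟨mul_mem (mul_mem hn ha.1) (N.inv_mem hn), ?_⟩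
        have := mul_mem (hCM hc) ha.2
        rwa [inv_mul_cancel_right] at this
      refine ⟨fun n hn => mem_normalizer_iff.mpr fun a => ⟨key n hn a, fun h => ?_⟩,
        fun m hm => mem_normalizer_iff.mpr fun a => ?_⟩
      · have := key n⁻¹ (inv_mem hn) _ h
        rwa [inv_inv, show n⁻¹ * (n * a * n⁻¹) * n = a by group] at this
      · have hNn : N.Normal := Normal.comap inferInstance π
        refine ⟨fun ha => Subgroup.mem_inf.mpr ⟨hNn.conj_mem a ha.1 m, mul_mem (mul_mem hm ha.2) (M.inv_mem hm)⟩,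
          fun h => Subgroup.mem_inf.mpr ⟨?_, ?_⟩⟩
        · have := hNn.conj_mem _ h.1 m⁻¹
          rwa [inv_inv, show m⁻¹ * (m * a * m⁻¹) * m = a by group] at this
        · have := mul_mem (mul_mem (inv_mem hm) h.2) hm
          rwa [show m⁻¹ * (m * a * m⁻¹) * m = a by group] at this
    exact normal_le_normalCore.mpr inf_le_right
  set D := N ⊓ (centralizer ({π x} : Set (G ⧸ C))).comap π with hD
  have hDN : D ≤ N := inf_le_left
  have hmemD : ∀ n, n ∈ D ↔ n ∈ N ∧ π n * π x = π x * π n := fun n => by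
    rw [hD, Subgroup.mem_inf]
    exact and_congr Iff.rfl mem_centralizer_singleton_iff
  -- the fixed cosets come from `D`
  have hNnorm : N.Normal := Normal.comap inferInstance π
  have hrep : ∀ c : {c : G ⧸ M // x • c = c}, ∃ n ∈ D, (n : G ⧸ M) = c.1 := by
    rintro ⟨c, hc⟩
    induction c using QuotientGroup.induction_on with | H g => ?_
    obtain ⟨n, hn, m, hm, rfl⟩ := mem_sup_of_normal_left.mp (show g ∈ N ⊔ M by rw [hsup]; trivial)
    have hnm : ((n * m : G) : G ⧸ M) = n := QuotientGroup.eq.mpr (by simpa using inv_mem hm)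
    rw [hnm] at hc
    refine ⟨n, (hmemD n).mpr ⟨hn, ?_⟩, hnm.symm⟩
    have h1 : n⁻¹ * (x * n) ∈ M := QuotientGroup.eq.mp hc.symm
    have h2 : (x⁻¹ * n⁻¹ * x) * n ∈ C := hinf (Subgroup.mem_inf.mpr
      ⟨N.mul_mem (by simpa using hNnorm.conj_mem _ (N.inv_mem hn) x⁻¹) hn,
      by have := M.mul_mem (M.inv_mem hxM) h1; simpa [mul_assoc] using this⟩)
    rw [← hπ, map_mul, map_mul, map_mul, map_inv, map_inv] at h2
    calc π n * π x = π n * π x * ((π x)⁻¹ * (π n)⁻¹ * π x * π n) := by rw [h2, mul_one]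
      _ = π x * π n := by group
  choose r hrD hr using hrep
  have hle1 : Nat.card {c : G ⧸ M // x • c = c} ≤ C.relIndex D := by
    refine Nat.card_le_card_of_injective (fun c => ((⟨r c, hrD c⟩ : D) : D ⧸ C.subgroupOf D)) fun c c' h => ?_
    refine Subtype.ext ?_
    rw [← hr c, ← hr c']
    exact QuotientGroup.eq.mpr (hCM (mem_subgroupOf.mp (QuotientGroup.eq.mp h)))
  have hle2 : C.relIndex N ≤ M.index := by
    refine Nat.card_le_card_of_injective
      (Quotient.map' (fun n : N => (n : G)) (fun a b h => by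
        rw [QuotientGroup.leftRel_apply] at h ⊢
        exact hCM h)) fun a b => ?_
    induction a using QuotientGroup.induction_on with | H a => ?_
    induction b using QuotientGroup.induction_on with | H b => ?_
    intro h
    refine QuotientGroup.eq.mpr ?_
    exact hinf (Subgroup.mem_inf.mpr ⟨mul_mem (N.inv_mem a.2) b.2, QuotientGroup.eq.mp h⟩)
  have hCD : C ≤ D := fun c hc => (hmemD c).mpr ⟨by
    show π c ∈ N'; rw [(hπ c).mpr hc]; exact one_mem _, by rw [(hπ c).mpr hc, one_mul, mul_one]⟩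
  have h1 : D.relIndex N ≠ 1 := by
    intro h
    rw [relIndex_eq_one] at h
    have hx' : x ∈ (centralizer (N' : Set (G ⧸ C))).comap π := by
      refine mem_centralizer_iff.mpr fun y hy => ?_
      obtain ⟨n, rfl⟩ := QuotientGroup.mk'_surjective C y
      exact ((hmemD n).mp (h hy)).2
    have htop := hxgen _ (Normal.comap inferInstance π) hx'
    have hMn : M.Normal := by
      rw [← normalizer_eq_top_iff, eq_top_iff, ← hsup, sup_le_iff]
      refine ⟨?_, le_normalizer⟩
      have key : ∀ n ∈ N, ∀ m ∈ M, n * m * n⁻¹ ∈ M := by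
        intro n hn m hm
        have hmc : π m ∈ centralizer (N' : Set (G ⧸ C)) := by
          rw [← mem_comap, htop]; trivial
        have hc : n * m * n⁻¹ * m⁻¹ ∈ C := by
          rw [← hπ, map_mul, map_mul, map_mul, map_inv, map_inv, mem_centralizer_iff.mp hmc (π n) hn]
          group
        have := mul_mem (hCM hc) hm
        rwa [inv_mul_cancel_right] at this
      intro n hn
      refine mem_normalizer_iff.mpr fun a => ⟨key n hn a, fun h' => ?_⟩
      have := key n⁻¹ (inv_mem hn) _ h'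
      rwa [inv_inv, show n⁻¹ * (n * a * n⁻¹) * n = a by group] at this
    exact hM.1 (hxgen M hMn hxM)
  have h2 : D.relIndex N ≠ 2 := by
    intro h
    obtain ⟨n, hnN, hnD⟩ : ∃ n ∈ N, n ∉ D := by
      by_contra hno
      push Not at hno
      exact h1 (relIndex_eq_one.mpr hno)
    have hprod : ∀ a ∈ N, a ∉ D → ∀ b ∈ N, b ∉ D → a * b ∈ D := by
      intro a ha haD b hb hbD
      have := (mul_mem_iff_of_index_two (H := D.subgroupOf N) h (a := ⟨a, ha⟩) (b := ⟨b, hb⟩)).mpr
        (iff_of_false haD hbD)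
      exact this
    have hn' : x * n * x⁻¹ ∈ N := hNnorm.conj_mem n hnN x
    have hn'D : x * n * x⁻¹ ∉ D := by
      intro hd
      have hd2 := ((hmemD _).mp hd).2
      refine hnD ((hmemD n).mpr ⟨hnN, ?_⟩)
      rw [map_mul, map_mul, map_inv] at hd2
      calc π n * π x = (π x)⁻¹ * (π x * π n * (π x)⁻¹ * π x) * π x := by group
        _ = (π x)⁻¹ * (π x * (π x * π n * (π x)⁻¹)) * π x := by rw [hd2]
        _ = π x * π n := by group
    have hzD : x * n * x⁻¹ * n⁻¹ ∈ D := hprod _ hn' hn'D _ (inv_mem hnN) fun hh => hnD (inv_inv n ▸ inv_mem hh)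
    set z := π (x * n * x⁻¹ * n⁻¹) with hz
    have hzc : π x * z = z * π x := ((hmemD _).mp hzD).2.symm
    have hcon : π x * π n * (π x)⁻¹ = z * π n := by
      rw [hz, map_mul, map_mul, map_mul, map_inv, map_inv]; group
    have hzn : Commute z (π n) :=
      congrArg Subtype.val (mul_comm' (⟨z, (hmemD _).mp hzD |>.1⟩ : N') ⟨π n, hnN⟩)
    have hz2 : z ^ 2 = 1 := by
      have hnn := ((hmemD _).mp (hprod n hnN hnD n hnN hnD)).2
      rw [map_mul] at hnn
      have h3 : π x * (π n * π n) * (π x)⁻¹ = π n * π n := by rw [← hnn]; group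
      rw [show π x * (π n * π n) * (π x)⁻¹ = (π x * π n * (π x)⁻¹) * (π x * π n * (π x)⁻¹) by group, hcon,
        ← pow_two, hzn.mul_pow, ← pow_two (π n)] at h3
      exact mul_eq_right.mp h3
    have hzp : z ^ p = 1 := by
      have := conj_pow_eq hzc hcon p
      rw [← map_pow, ← hx, pow_orderOf_eq_one, map_one, one_mul, inv_one, mul_one, hx] at this
      exact mul_eq_right.mp this.symm
    have hz1 : z = 1 := orderOf_eq_one_iff.mp (Nat.eq_one_of_dvd_coprimes
      ((Nat.coprime_primes Nat.prime_two Fact.out).mpr (by omega))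
      (orderOf_dvd_of_pow_eq_one hz2) (orderOf_dvd_of_pow_eq_one hzp))
    rw [hz1, one_mul] at hcon
    exact hnD ((hmemD n).mpr ⟨hnN, by
      conv_lhs => rw [← hcon]
      group⟩)
  have h0 : D.relIndex N ≠ 0 := Finite.card_pos.ne'
  have hmul := relIndex_mul_relIndex C D N hCD hDN
  calc 3 * Nat.card {c : G ⧸ M // x • c = c} ≤ 3 * C.relIndex D := Nat.mul_le_mul_left _ hle1
    _ ≤ D.relIndex N * C.relIndex D := Nat.mul_le_mul_right _ (by omega)
    _ = C.relIndex N := by rw [mul_comm, hmul]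
    _ ≤ M.index := hle2

theorem three_mul_fixed_le [Group.IsSolvable G] [Fact p.Prime] {X : Type*} [MulAction G X] [Finite X]
    [MulAction.IsPretransitive G X] [Nontrivial X] (hp : 3 < p) (hx : orderOf x = p)
    (hgen : normalClosure ({x} : Set G) = ⊤) : 3 * Nat.card {y : X // x • y = y} ≤ Nat.card X := by
  classical
  by_cases hno : ∃ y : X, x • y = y
  swap
  · haveI : IsEmpty {y : X // x • y = y} := ⟨fun y => hno ⟨y.1, y.2⟩⟩
    simp
  obtain ⟨y₀, hy₀⟩ := hno
  set S := MulAction.stabilizer G y₀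
  have hS : S ≠ ⊤ := by
    intro h
    obtain ⟨y, hy⟩ := exists_ne y₀
    obtain ⟨g, rfl⟩ := MulAction.exists_smul_eq G y₀ y
    exact hy (MulAction.mem_stabilizer_iff.mp (show g ∈ S by rw [h]; trivial))
  obtain ⟨M, hM, hSM⟩ := (eq_top_or_exists_le_coatom S).resolve_left hS
  have hb := fixed_coset_le hp hx hgen hM (hSM hy₀)
  let e : X ≃ (G ⧸ M) × (M ⧸ S.subgroupOf M) :=
    ((Equiv.Set.univ X).symm.trans (Equiv.setCongr (MulAction.orbit_eq_univ G y₀).symm)).trans
      ((MulAction.orbitEquivQuotientStabilizer G y₀).trans (Subgroup.quotientEquivProdOfLE hSM))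
  have hfst : ∀ g : G, (e (g • y₀)).1 = (g : G ⧸ M) := by
    intro g
    have : (MulAction.orbitEquivQuotientStabilizer G y₀) ⟨g • y₀, MulAction.mem_orbit _ g⟩ = (g : G ⧸ S) := by
      rw [← Equiv.eq_symm_apply]
      exact Subtype.ext (MulAction.orbitEquivQuotientStabilizer_symm_apply G y₀ g).symm
    show (Subgroup.quotientEquivProdOfLE hSM
      ((MulAction.orbitEquivQuotientStabilizer G y₀) ⟨g • y₀, _⟩)).1 = _
    rw [this]
    rfl
  have hle : Nat.card {y : X // x • y = y} ≤
      Nat.card ({c : G ⧸ M // x • c = c} × (M ⧸ S.subgroupOf M)) := by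
    refine Nat.card_le_card_of_injective (fun y => (⟨(e y.1).1, ?_⟩, (e y.1).2)) fun a b h => ?_
    · obtain ⟨g, hg⟩ := MulAction.exists_smul_eq G y₀ y.1
      have h2 := y.2
      rw [← hg, smul_smul] at h2
      conv_rhs => rw [← hg, ← h2, hfst]
      rw [← hg, hfst]; rfl
    · simp only [Prod.mk.injEq, Subtype.mk.injEq] at h
      exact Subtype.ext (e.injective (Prod.ext h.1 h.2))
  rw [Nat.card_prod] at hle
  rw [Nat.card_congr e, Nat.card_prod]
  calc 3 * _ ≤ 3 * (Nat.card {c : G ⧸ M // x • c = c} * Nat.card (M ⧸ S.subgroupOf M)) := Nat.mul_le_mul_left _ hle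
    _ ≤ _ := by rw [← mul_assoc]; exact Nat.mul_le_mul_right _ hb

end Cfsg.Agent.FixedDim
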