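import Mathlib
import Cfsg.Agent.Lib.HallHigman.Eigen

/-!
# Weight spaces of an abelian normal subgroup and the fixed space of an element of prime order

`fix_bound`: if all nonzero weight spaces of `A ⊴ G` have dimension `d`, then for `x` of prime order `p` the fixed
space of `x` has dimension at most `d` times the number of `⟨x⟩`-orbits of weights.
`sq_lt_finrank_commutant`: `T ≠ 1` centralises more than `(dim ker (T-1))^2` dimensions of endomorphisms.
-/

set_option autoImplicit false
set_option linter.style.haveILetI false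

namespace Cfsg.Agent.FixedDim

open Finset
open scoped IsMulCommutative

universe uK uU

variable {K : Type uK} [Field K] {U : Type uU} [AddCommGroup U] [Module K U]

section weights

variable {A : Type*} [CommGroup A] [Finite A] (σ : A →* Module.End K U)

/-- The weight space of the character `χ`. -/
def wsp (χ : A →* Kˣ) : Submodule K U where
  carrier := {u | ∀ a, σ a u = (χ a : K) • u}
  zero_mem' a := by simp
  add_mem' {u v} hu hv a := by rw [map_add, hu, hv, smul_add]
  smul_mem' c u hu a := by rw [map_smul, hu, smul_comm]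

theorem mem_wsp {χ : A →* Kˣ} {u : U} : u ∈ wsp σ χ ↔ ∀ a, σ a u = (χ a : K) • u := Iff.rfl

/-- The unnormalised projection on a weight space. -/
noncomputable def wproj (χ : A →* Kˣ) : Module.End K U :=
  letI := Fintype.ofFinite A
  ∑ a : A, ((χ a)⁻¹ : Kˣ).val • σ a

theorem wproj_mem (χ : A →* Kˣ) (u : U) : wproj σ χ u ∈ wsp σ χ := by
  letI := Fintype.ofFinite A
  intro b
  simp only [wproj, LinearMap.sum_apply, LinearMap.smul_apply, map_sum, map_smul, Finset.smul_sum, smul_smul,
    ← Module.End.mul_apply, ← map_mul]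
  conv_rhs => rw [← Equiv.sum_comp (Equiv.mulLeft b)]
  refine Finset.sum_congr rfl fun a _ => ?_
  congr 1
  rw [Equiv.coe_mulLeft, map_mul, mul_inv, Units.val_mul, ← mul_assoc, ← Units.val_mul, mul_inv_cancel,
    Units.val_one, one_mul]

theorem sum_char_eq_zero {f : A →* Kˣ} (hf : f ≠ 1) [Fintype A] : ∑ a : A, (f a : K) = 0 :=
  sum_hom_units_eq_zero ((Units.coeHom K).comp f) fun h => hf <| MonoidHom.ext fun a =>
    Units.ext (DFunLike.congr_fun h a)

theorem wproj_of_mem_same {χ : A →* Kˣ} {u : U} (hu : u ∈ wsp σ χ) :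
    wproj σ χ u = (Nat.card A : K) • u := by
  letI := Fintype.ofFinite A
  simp only [wproj, LinearMap.sum_apply, LinearMap.smul_apply, hu _, smul_smul, ← Units.val_mul,
    inv_mul_cancel, Units.val_one, one_smul, Finset.sum_const, Finset.card_univ, Nat.card_eq_fintype_card,
    Nat.cast_smul_eq_nsmul]

theorem wproj_of_mem_ne {χ ψ : A →* Kˣ} (h : χ ≠ ψ) {u : U} (hu : u ∈ wsp σ χ) : wproj σ ψ u = 0 := by
  letI := Fintype.ofFinite A
  simp only [wproj, LinearMap.sum_apply, LinearMap.smul_apply, hu _, smul_smul, ← Units.val_mul]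
  rw [← Finset.sum_smul]
  have := sum_char_eq_zero (f := ψ⁻¹ * χ) (fun e => h (inv_mul_eq_one.mp e).symm)
  simp only [MonoidHom.mul_apply, MonoidHom.inv_apply] at this
  rw [this, zero_smul]

theorem wproj_eq_zero_iff (hA : (Nat.card A : K) ≠ 0) (χ : A →* Kˣ) : wproj σ χ = 0 ↔ wsp σ χ = ⊥ := by
  refine ⟨fun h => (Submodule.eq_bot_iff _).mpr fun u hu => ?_, fun h => LinearMap.ext fun u => ?_⟩
  · have := wproj_of_mem_same σ hu
    rw [h, LinearMap.zero_apply, eq_comm, smul_eq_zero] at this
    exact this.resolve_left hA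
  · have := wproj_mem σ χ u
    rw [h, Submodule.mem_bot] at this
    simp [this]

theorem exists_char_ne_one [IsAlgClosed K] (hA : (Nat.card A : K) ≠ 0) {a : A} (ha : a ≠ 1) :
    ∃ χ : A →* Kˣ, χ a ≠ 1 := by
  haveI : NeZero ((Monoid.exponent A : ℕ) : K) := ⟨fun h => hA (by
    obtain ⟨c, hc⟩ := Group.exponent_dvd_nat_card (G := A)
    rw [hc, Nat.cast_mul, h, zero_mul])⟩
  exact CommGroup.exists_apply_ne_one_of_hasEnoughRootsOfUnity A K ha

theorem card_chars [IsAlgClosed K] (hA : (Nat.card A : K) ≠ 0) :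
    Finite (A →* Kˣ) ∧ Nat.card (A →* Kˣ) = Nat.card A := by
  haveI : NeZero ((Monoid.exponent A : ℕ) : K) := ⟨fun h => hA (by
    obtain ⟨c, hc⟩ := Group.exponent_dvd_nat_card (G := A)
    rw [hc, Nat.cast_mul, h, zero_mul])⟩
  have h := CommGroup.card_monoidHom_of_hasEnoughRootsOfUnity A K
  exact ⟨Nat.finite_of_card_ne_zero (by rw [h]; exact Nat.card_pos.ne'), h⟩

theorem sum_wproj [IsAlgClosed K] (hA : (Nat.card A : K) ≠ 0) [Fintype (A →* Kˣ)] :
    ∑ χ : A →* Kˣ, wproj σ χ = (Nat.card A : K) • 1 := by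
  classical
  letI := Fintype.ofFinite A
  simp only [wproj]
  rw [Finset.sum_comm, Finset.sum_eq_single (1 : A)]
  · simp only [map_one, inv_one, Units.val_one, one_smul, Finset.sum_const, Finset.card_univ]
    rw [← Nat.card_eq_fintype_card, (card_chars hA).2, Nat.cast_smul_eq_nsmul]
  · intro a _ ha
    obtain ⟨χ₀, hχ₀⟩ := exists_char_ne_one (K := K) hA ha
    let f : (A →* Kˣ) →* K :=
      { toFun := fun χ => ((χ a)⁻¹ : Kˣ).val
        map_one' := by simp
        map_mul' := fun χ ψ => by simp [mul_inv, mul_comm] }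
    rw [← Finset.sum_smul, show (∑ χ : A →* Kˣ, ((χ a)⁻¹ : Kˣ).val) = ∑ χ, f χ from rfl,
      sum_hom_units_eq_zero f (fun e => hχ₀ (by
        have h2 := DFunLike.congr_fun e χ₀
        exact inv_eq_one.mp (Units.ext h2))), zero_smul]
  · simp

theorem sum_finrank_le [FiniteDimensional K U] (hA : (Nat.card A : K) ≠ 0) (s : Finset (A →* Kˣ)) :
    ∑ χ ∈ s, Module.finrank K (wsp σ χ) ≤ Module.finrank K U := by
  classical
  let Φ : (∀ i : s, wsp σ i.1) →ₗ[K] U := ∑ i : s, (wsp σ i.1).subtype ∘ₗ LinearMap.proj i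
  have hΦ : Function.Injective Φ := by
    refine (injective_iff_map_eq_zero Φ).2 fun f hf => funext fun j => Subtype.ext ?_
    have h1 := congrArg (wproj σ j.1) hf
    simp only [Φ, LinearMap.sum_apply, LinearMap.coe_comp, Function.comp_apply, LinearMap.proj_apply,
      Submodule.coe_subtype, map_sum, map_zero] at h1
    rw [Finset.sum_eq_single j (fun i _ hij => wproj_of_mem_ne σ (fun e => hij (Subtype.ext e)) (f i).2)
      (by simp), wproj_of_mem_same σ (f j).2, smul_eq_zero] at h1
    exact h1.resolve_left hA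
  have := LinearMap.finrank_le_finrank_of_injective hΦ
  rwa [Module.finrank_pi_fintype, Finset.sum_coe_sort s fun χ => Module.finrank K (wsp σ χ)] at this

end weights

/-- The number of orbits of a group of prime order. -/
theorem card_orbits {P X : Type*} [Group P] [Finite P] [MulAction P X] [Finite X] {p : ℕ} [Fact p.Prime]
    (hP : Nat.card P = p) :
    p * Nat.card (MulAction.orbitRel.Quotient P X) =
      Nat.card X + (p - 1) * Nat.card (MulAction.fixedPoints P X) := by
  classical
  letI := Fintype.ofFinite P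
  letI := Fintype.ofFinite X
  letI := Fintype.ofFinite (MulAction.orbitRel.Quotient P X)
  have h := MulAction.sum_card_fixedBy_eq_card_orbits_mul_card_group P X
  rw [← Nat.card_eq_fintype_card (α := P), hP, ← Nat.card_eq_fintype_card, mul_comm _ p] at h
  simp only [← Nat.card_eq_fintype_card] at h
  rw [← h, ← Finset.add_sum_erase _ _ (Finset.mem_univ (1 : P))]
  congr 1
  · exact Nat.card_congr ((Equiv.setCongr
      (show MulAction.fixedBy X (1 : P) = Set.univ from Set.eq_univ_of_forall fun x => one_smul P x)).trans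
      (Equiv.Set.univ X))
  rw [Finset.sum_congr rfl (g := fun _ => Nat.card (MulAction.fixedPoints P X)), Finset.sum_const,
    Finset.card_erase_of_mem (Finset.mem_univ _), Finset.card_univ, ← Nat.card_eq_fintype_card, hP, smul_eq_mul]
  intro g hg
  refine Nat.card_congr (Equiv.setCongr (Set.ext fun x => ⟨fun (hx : g • x = x) a => ?_, fun hx => hx g⟩))
  have ha : a ∈ Subgroup.zpowers g := by
    rw [zpowers_eq_top_of_prime_card hP (Finset.ne_of_mem_erase hg)]; trivial
  obtain ⟨k, rfl⟩ := Subgroup.mem_zpowers_iff.mp ha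
  exact MulAction.mem_stabilizer_iff.mp (zpow_mem (show g ∈ MulAction.stabilizer P x from hx) k)

section normal

variable {G : Type*} [Group G] (ρ : G →* Module.End K U) (A : Subgroup G) [A.Normal] [IsMulCommutative A]

/-- `g • χ`. -/
def tw (g : G) (χ : A →* Kˣ) : A →* Kˣ := χ.comp (MulAut.conjNormal g⁻¹ : MulAut A).toMonoidHom

theorem tw_apply (g : G) (χ : A →* Kˣ) (a : A) : tw A g χ a = χ (MulAut.conjNormal g⁻¹ a) := rfl

/-- The action of `G` on the characters of a normal subgroup. -/
@[reducible] def charAction : MulAction G (A →* Kˣ) where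
  smul := tw A
  one_smul χ := MonoidHom.ext fun a => by
    show χ (MulAut.conjNormal (1 : G)⁻¹ a) = χ a
    simp
  mul_smul g h χ := MonoidHom.ext fun a => by
    show χ (MulAut.conjNormal (g * h)⁻¹ a) = χ (MulAut.conjNormal h⁻¹ (MulAut.conjNormal g⁻¹ a))
    rw [mul_inv_rev, map_mul, MulAut.mul_apply]

theorem map_wsp (g : G) {χ : A →* Kˣ} {u : U} (hu : u ∈ wsp (ρ.comp A.subtype) χ) :
    ρ g u ∈ wsp (ρ.comp A.subtype) (tw A g χ) := by
  intro a
  have h := hu (MulAut.conjNormal g⁻¹ a)
  show ρ (a : G) (ρ g u) = _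
  rw [← Module.End.mul_apply, ← map_mul,
    show (a : G) * g = g * (MulAut.conjNormal g⁻¹ a : A) by simp [mul_assoc], map_mul, Module.End.mul_apply,
    show ρ ((MulAut.conjNormal g⁻¹ a : A) : G) u = _ from h, map_smul, tw_apply]

theorem rho_injective (g : G) : Function.Injective (ρ g) := fun u v h => by
  simpa [← Module.End.mul_apply, ← map_mul] using congrArg (ρ g⁻¹) h

theorem finrank_wsp_tw [FiniteDimensional K U] (g : G) (χ : A →* Kˣ) :
    Module.finrank K (wsp (ρ.comp A.subtype) (tw A g χ)) = Module.finrank K (wsp (ρ.comp A.subtype) χ) := by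
  have hle : ∀ g χ, Module.finrank K (wsp (ρ.comp A.subtype) χ) ≤
      Module.finrank K (wsp (ρ.comp A.subtype) (tw A g χ)) := fun g χ =>
    LinearMap.finrank_le_finrank_of_injective (f := (ρ g).restrict fun u hu => map_wsp ρ A g hu)
      fun u v h => Subtype.ext (rho_injective ρ g (congrArg Subtype.val h))
  refine le_antisymm ?_ (hle g χ)
  have h := hle g⁻¹ (tw A g χ)
  letI := charAction (K := K) A
  have e : tw A g⁻¹ (tw A g χ) = χ := inv_smul_smul g χ
  rwa [e] at h

theorem wsp_tw_ne_bot [FiniteDimensional K U] (g : G) {χ : A →* Kˣ} (h : wsp (ρ.comp A.subtype) χ ≠ ⊥) :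
    wsp (ρ.comp A.subtype) (tw A g χ) ≠ ⊥ := fun e => h (Submodule.finrank_eq_zero.mp (by
  rw [← finrank_wsp_tw ρ A g χ, e, finrank_bot]))

variable [Finite G]

/-- If all nonzero weight spaces have dimension `d`, the fixed space of an element of order `p` has dimension at
most `d` times the number of its orbits on weights. -/
theorem fix_bound [IsAlgClosed K] [FiniteDimensional K U] (hA : (Nat.card A : K) ≠ 0) {p : ℕ} [Fact p.Prime]
    {x : G} (hx : orderOf x = p) (d : ℕ)
    (hd : ∀ χ, wsp (ρ.comp A.subtype) χ ≠ ⊥ → Module.finrank K (wsp (ρ.comp A.subtype) χ) = d) :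
    p * Module.finrank K (LinearMap.ker (ρ x - 1)) ≤
      (Nat.card {χ : A →* Kˣ // wsp (ρ.comp A.subtype) χ ≠ ⊥} + (p - 1) *
        Nat.card {χ : A →* Kˣ // wsp (ρ.comp A.subtype) χ ≠ ⊥ ∧ tw A x χ = χ}) * d ∧
      Nat.card {χ : A →* Kˣ // wsp (ρ.comp A.subtype) χ ≠ ⊥} * d ≤ Module.finrank K U := by
  classical
  haveI := (card_chars (K := K) (A := A) hA).1
  letI := Fintype.ofFinite (A →* Kˣ)
  set σ := ρ.comp A.subtype with hσ
  refine ⟨?_, ?_⟩
  swap
  · have h := sum_finrank_le σ hA (Finset.univ.filter fun χ => wsp σ χ ≠ ⊥)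
    rw [Finset.sum_congr rfl (fun χ hχ => hd χ (Finset.mem_filter.mp hχ).2), Finset.sum_const, smul_eq_mul] at h
    rwa [Nat.card_eq_fintype_card, Fintype.card_subtype]
  letI act := charAction (K := K) A
  set P := Subgroup.zpowers x
  have hP : Nat.card P = p := by rw [Nat.card_zpowers, hx]
  let X := {χ : A →* Kˣ // wsp σ χ ≠ ⊥}
  letI : MulAction P X :=
    { smul := fun a χ => ⟨tw A (a : G) χ.1, wsp_tw_ne_bot ρ A _ χ.2⟩
      one_smul := fun χ => Subtype.ext (one_smul G χ.1)
      mul_smul := fun a b χ => Subtype.ext (mul_smul (a : G) (b : G) χ.1) }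
  letI := Fintype.ofFinite (MulAction.orbitRel.Quotient P X)
  let Φ : LinearMap.ker (ρ x - 1) →ₗ[K] (∀ ω : MulAction.orbitRel.Quotient P X, wsp σ ω.out.1) :=
    LinearMap.pi fun ω => ((wproj σ ω.out.1) ∘ₗ (LinearMap.ker (ρ x - 1)).subtype).codRestrict _
      fun u => wproj_mem σ _ _
  have hΦ : Function.Injective Φ := by
    refine (injective_iff_map_eq_zero Φ).2 fun u hu => Subtype.ext ?_
    have hfix : ∀ a : P, ρ (a : G) (u : U) = u := by
      intro a
      obtain ⟨k, hk⟩ := (isOfFinOrder_of_finite x).mem_powers_iff_mem_zpowers.mpr a.2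
      have hxu : ρ x (u : U) = u := sub_eq_zero.mp (LinearMap.mem_ker.mp u.2 : (ρ x - 1) (u : U) = 0)
      rw [← hk]
      clear hk
      induction k with
      | zero => simp
      | succ k ih =>
        show ρ (x ^ (k + 1)) (u : U) = u
        rw [pow_succ, map_mul, Module.End.mul_apply, hxu]; exact ih
    have hall : ∀ χ, wproj σ χ (u : U) = 0 := by
      intro χ
      by_cases hχ : wsp σ χ = ⊥
      · rw [(wproj_eq_zero_iff σ hA χ).mpr hχ]; rfl
      obtain ⟨a, ha⟩ : (⟨χ, hχ⟩ : X) ∈ MulAction.orbit P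
          (Quotient.mk'' (⟨χ, hχ⟩ : X) : MulAction.orbitRel.Quotient P X).out :=
        (MulAction.orbitRel P X).symm (Quotient.mk_out (s := MulAction.orbitRel P X) (⟨χ, hχ⟩ : X))
      set ω := (Quotient.mk'' (⟨χ, hχ⟩ : X) : MulAction.orbitRel.Quotient P X)
      have h0 : wproj σ ω.out.1 (u : U) = 0 := congrArg Subtype.val (congrFun hu ω)
      have h1 : tw A (a : G) ω.out.1 = χ := congrArg Subtype.val ha
      letI := Fintype.ofFinite A
      rw [← h1]
      calc wproj σ (tw A (a : G) ω.out.1) (u : U) = ρ (a : G) (wproj σ ω.out.1 u) := by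
            simp only [wproj, LinearMap.sum_apply, LinearMap.smul_apply, map_sum, map_smul]
            refine Fintype.sum_equiv (MulAut.conjNormal (a : G)⁻¹ : MulAut A).toEquiv _ _ fun b => ?_
            show ((tw A (a : G) ω.out.1 b)⁻¹ : Kˣ).val • ρ (b : G) (u : U) =
              ((ω.out.1 (MulAut.conjNormal (a : G)⁻¹ b))⁻¹ : Kˣ).val •
                ρ (a : G) (ρ ((MulAut.conjNormal (a : G)⁻¹ b : A) : G) u)
            congr 1
            rw [← Module.End.mul_apply, ← map_mul, show (a : G) * ((MulAut.conjNormal (a : G)⁻¹ b : A) : G)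
              = (b : G) * a by simp [mul_assoc], map_mul, Module.End.mul_apply, hfix]
        _ = 0 := by rw [h0, map_zero]
    have := LinearMap.congr_fun (sum_wproj σ hA) (u : U)
    rw [LinearMap.sum_apply, Finset.sum_eq_zero fun χ _ => hall χ, LinearMap.smul_apply, eq_comm,
      Module.End.one_apply, smul_eq_zero] at this
    exact this.resolve_left hA
  have h := LinearMap.finrank_le_finrank_of_injective hΦ
  rw [Module.finrank_pi_fintype, Finset.sum_congr rfl (fun ω _ => hd _ ω.out.2), Finset.sum_const,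
    Finset.card_univ, smul_eq_mul, ← Nat.card_eq_fintype_card] at h
  have e : Nat.card {χ : A →* Kˣ // wsp σ χ ≠ ⊥ ∧ tw A x χ = χ} = Nat.card (MulAction.fixedPoints P X) := by
    refine Nat.card_congr
      { toFun := fun χ => ⟨⟨χ.1, χ.2.1⟩, fun a => ?_⟩
        invFun := fun χ => ⟨χ.1.1, χ.1.2, congrArg Subtype.val (χ.2 ⟨x, Subgroup.mem_zpowers x⟩)⟩
        left_inv := fun χ => rfl
        right_inv := fun χ => rfl }
    refine Subtype.ext ?_
    exact MulAction.mem_stabilizer_iff.mp ((Subgroup.zpowers_le.mpr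
      (MulAction.mem_stabilizer_iff.mpr χ.2.2 : x ∈ MulAction.stabilizer G χ.1)) a.2)
  rw [e, ← card_orbits hP, mul_assoc]
  exact Nat.mul_le_mul_left _ h

end normal

/-- An endomorphism other than `1` centralises more than `(dim ker (T - 1))²` dimensions. -/
theorem sq_lt_finrank_commutant [FiniteDimensional K U] {T : Module.End K U} (hT : T ≠ 1) :
    Module.finrank K (LinearMap.ker (T - 1)) ^ 2 < Module.finrank K (HallHigman.commutant T) := by
  set N := LinearMap.ker (T - 1)
  set R := LinearMap.range (T - 1)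
  let Φ : (U ⧸ R →ₗ[K] N) →ₗ[K] Module.End K U :=
    { toFun := fun f => N.subtype ∘ₗ f ∘ₗ R.mkQ
      map_add' := fun f g => by ext; simp
      map_smul' := fun c f => by ext; simp }
  have hΦ : Function.Injective Φ := by
    refine (injective_iff_map_eq_zero Φ).2 fun f hf => LinearMap.ext fun y => ?_
    obtain ⟨u, rfl⟩ := R.mkQ_surjective y
    exact Subtype.ext (LinearMap.congr_fun hf u)
  have hN : ∀ v ∈ N, T v = v := fun v hv => sub_eq_zero.mp (LinearMap.mem_ker.mp hv : (T - 1) v = 0)
  have hle : LinearMap.range Φ < HallHigman.commutant T := by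
    refine lt_of_le_of_ne ?_ fun e => hT ?_
    · rintro _ ⟨f, rfl⟩
      refine HallHigman.mem_commutant.mpr (LinearMap.ext fun u => ?_)
      show T ((f (R.mkQ u) : N) : U) = ((f (R.mkQ (T u)) : N) : U)
      rw [hN _ (f (R.mkQ u)).2]
      congr 2
      rw [Submodule.mkQ_apply, Submodule.mkQ_apply, eq_comm, Submodule.Quotient.eq]
      exact ⟨u, by simp⟩
    · obtain ⟨f, hf⟩ : (1 : Module.End K U) ∈ LinearMap.range Φ := by
        rw [e]; exact HallHigman.mem_commutant.mpr (by rw [mul_one, one_mul])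
      refine LinearMap.ext fun u => hN u ?_
      have h1 : ((f (R.mkQ u) : N) : U) = u := LinearMap.congr_fun hf u
      rw [← h1]
      exact (f (R.mkQ u)).2
  have h := Submodule.finrank_lt_finrank_of_lt hle
  rw [LinearMap.finrank_range_of_inj hΦ, Module.finrank_linearMap] at h
  have hR : Module.finrank K (U ⧸ R) = Module.finrank K N := by
    have h1 := Submodule.finrank_quotient_add_finrank R
    have h2 : Module.finrank K R + Module.finrank K N = Module.finrank K U :=
      LinearMap.finrank_range_add_finrank_ker (T - 1)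
    omega
  rwa [hR, ← pow_two] at h

end Cfsg.Agent.FixedDim
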