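import Mathlib
import Cfsg.Agent.Lib.FixedDim.Weights
import Cfsg.Agent.Lib.FixedDim.Permutation
import Cfsg.Agent.Lib.Quadratic.Stability
import Cfsg.Agent.Lib.PCore.PSolvable
import Cfsg.Agent.Lib.PGroup.ElementaryAbelian

/-!
# Fixed spaces of elements of prime order `> 3` in irreducible representations of solvable groups

`card_ne_zero_of_normal`: abelian normal subgroups of a faithful irreducible group have order prime to the
characteristic. `two_finrank_fixed_lt_of_isAlgClosed`: if the conjugates of `x` generate, its fixed space has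
dimension less than half.
-/

set_option autoImplicit false
set_option linter.style.haveILetI false

namespace Cfsg.Agent.FixedDim

open Subgroup
open scoped commutatorElement IsMulCommutative

universe uK uW

variable {K : Type uK} [Field K] {W : Type uW} [AddCommGroup W] [Module K W]
  {G : Type*} [Group G] (τ : G →* Module.End K W)

/-- `τ` has no invariant subspaces but the trivial ones. -/
def NoInvariant : Prop := ∀ U : Submodule K W, (∀ g, ∀ u ∈ U, τ g u ∈ U) → U = ⊥ ∨ U = ⊤

variable [Finite G]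

theorem sub_one_ne_zero {q : ℕ} [Fact q.Prime] (hq : (q : K) = 0) {T : Module.End K W} (hT : T ^ q = 1)
    [Nontrivial W] : (T - 1) ^ q = 0 := by
  haveI : CharP K q := by
    obtain ⟨c, hc⟩ := CharP.exists K
    have hdvd : c ∣ q := (CharP.cast_eq_zero_iff K c q).mp hq
    rcases (Nat.dvd_prime Fact.out).mp hdvd with rfl | rfl
    · haveI := hc; exact absurd rfl (CharP.char_ne_one K 1)
    · exact hc
  haveI : CharP (Module.End K W) q :=
    charP_of_injective_algebraMap (algebraMap K (Module.End K W)).injective q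
  rw [sub_pow_char_of_commute (p := q) (Commute.one_right T), hT, one_pow, sub_self]

theorem card_ne_zero_of_normal [Nontrivial W] (hinj : Function.Injective τ) (hirr : NoInvariant τ)
    (A : Subgroup G) [hAn : A.Normal] [IsMulCommutative A] : (Nat.card A : K) ≠ 0 := by
  intro h0
  obtain ⟨q, hq, hqd, hq0⟩ : ∃ q : ℕ, q.Prime ∧ q ∣ Nat.card A ∧ (q : K) = 0 := by
    obtain ⟨c, hc⟩ := CharP.exists K
    have hcd : c ∣ Nat.card A := (CharP.cast_eq_zero_iff K c _).mp h0
    have hc0 : c ≠ 0 := fun e => by rw [e, zero_dvd_iff] at hcd; exact Nat.card_pos.ne' hcd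
    exact ⟨c, (CharP.char_is_prime_or_zero K c).resolve_right hc0, hcd, CharP.cast_eq_zero K c⟩
  haveI := Fact.mk hq
  obtain ⟨a₀, ha₀⟩ := exists_prime_orderOf_dvd_card' (G := A) q hqd
  let L : Subgroup G :=
    { carrier := {a | a ∈ A ∧ a ^ q = 1}
      one_mem' := ⟨one_mem A, one_pow q⟩
      mul_mem' := fun {a b} ha hb => ⟨mul_mem ha.1 hb.1, by
        rw [(show Commute a b from congrArg Subtype.val (mul_comm' (⟨a, ha.1⟩ : A) ⟨b, hb.1⟩)).mul_pow,
          ha.2, hb.2, one_mul]⟩
      inv_mem' := fun {a} ha => ⟨inv_mem ha.1, by rw [inv_pow, ha.2, inv_one]⟩ }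
  have hLn : ∀ g, ∀ a ∈ L, g * a * g⁻¹ ∈ L := fun g a ha =>
    ⟨hAn.conj_mem a ha.1 g, by rw [conj_pow, ha.2, mul_one, mul_inv_cancel]⟩
  have hfix : ∀ s : Finset G, (∀ a ∈ s, a ∈ L) → ∃ v : W, v ≠ 0 ∧ ∀ a ∈ s, τ a v = v := by
    classical
    intro s
    induction s using Finset.induction_on with
    | empty => exact fun _ => ⟨_, (exists_ne (0 : W)).choose_spec, by simp⟩
    | insert a s _ ih =>
      intro hs
      obtain ⟨v, hv0, hv⟩ := ih fun b hb => hs b (Finset.mem_insert_of_mem hb)
      have haL := hs a (Finset.mem_insert_self a s)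
      set T := τ a - 1 with hT
      have hTq : (T ^ q) v = 0 := by
        rw [hT, sub_one_ne_zero hq0 (by rw [← map_pow, haL.2, map_one])]; rfl
      have hex : ∃ k, (T ^ k) v = 0 := ⟨q, hTq⟩
      have h1 : Nat.find hex ≠ 0 := fun e => hv0 (by simpa [e] using Nat.find_spec hex)
      obtain ⟨k, hk⟩ := Nat.exists_eq_succ_of_ne_zero h1
      refine ⟨(T ^ k) v, Nat.find_min hex (by omega), fun b hb => ?_⟩
      rcases Finset.mem_insert.mp hb with rfl | hb
      · have := Nat.find_spec hex
        rw [hk, pow_succ', Module.End.mul_apply, hT, LinearMap.sub_apply, Module.End.one_apply, sub_eq_zero] at this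
        rw [hT]; exact this
      · have hc : Commute (τ b) T := by
          refine Commute.sub_right ?_ (Commute.one_right _)
          exact (show Commute b a from congrArg Subtype.val
            (mul_comm' (⟨b, (hs b (Finset.mem_insert_of_mem hb)).1⟩ : A) ⟨a, haL.1⟩)).map τ
        rw [← Module.End.mul_apply, (hc.pow_right k).eq, Module.End.mul_apply, hv b hb]
  let U : Submodule K W :=
    { carrier := {v | ∀ a ∈ L, τ a v = v}
      zero_mem' := fun a _ => map_zero _
      add_mem' := fun hu hv a ha => by rw [map_add, hu a ha, hv a ha]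
      smul_mem' := fun c v hv a ha => by rw [map_smul, hv a ha] }
  rcases hirr U (fun g u hu a ha => by
    have h := hu (g⁻¹ * a * g) (by simpa using hLn g⁻¹ a ha)
    rw [← Module.End.mul_apply, ← map_mul, show a * g = g * (g⁻¹ * a * g) by group, map_mul,
      Module.End.mul_apply, h]) with h | h
  · classical
    letI := Fintype.ofFinite G
    obtain ⟨v, hv0, hv⟩ := hfix (Finset.univ.filter (· ∈ L)) fun a ha => (Finset.mem_filter.mp ha).2
    exact hv0 ((Submodule.eq_bot_iff U).mp h v fun a ha => hv a (Finset.mem_filter.mpr ⟨Finset.mem_univ a, ha⟩))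
  · have ha : (a₀ : G) ∈ L := ⟨a₀.2, by
      rw [← SubgroupClass.coe_pow, ← ha₀, pow_orderOf_eq_one]; rfl⟩
    have h1 : (a₀ : G) = 1 := hinj (by
      rw [map_one]
      exact LinearMap.ext fun v => (show v ∈ U by rw [h]; trivial) _ ha)
    rw [← orderOf_submonoid, h1, orderOf_one] at ha₀
    exact hq.ne_one ha₀.symm

variable [IsAlgClosed K] [FiniteDimensional K W] [Nontrivial W]

omit [Finite G] in
theorem exists_scalar (hirr : NoInvariant τ) {z : G} (hz : z ∈ center G) : ∃ c : K, τ z = c • 1 := by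
  obtain ⟨c, hc⟩ := Module.End.exists_eigenvalue (τ z)
  refine ⟨c, ?_⟩
  rcases hirr (Module.End.eigenspace (τ z) c) (fun g u hu => by
    rw [Module.End.mem_eigenspace_iff] at hu ⊢
    rw [← Module.End.mul_apply, ← map_mul, ← mem_center_iff.mp hz g, map_mul, Module.End.mul_apply, hu,
      map_smul]) with h | h
  · exact absurd h hc
  · exact LinearMap.ext fun v => Module.End.mem_eigenspace_iff.mp (by rw [h]; trivial)

theorem rep_ne_zero (g : G) : τ g ≠ 0 := fun h => by
  obtain ⟨v, hv⟩ := exists_ne (0 : W)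
  apply hv
  have h1 : (τ g⁻¹ * τ g) v = v := by rw [← map_mul, inv_mul_cancel, map_one]; rfl
  rw [h, mul_zero] at h1
  exact h1.symm

variable [Group.IsSolvable G] {p : ℕ} [hpf : Fact p.Prime] {x : G}

/-- The case of a non-central abelian normal subgroup. -/
theorem fixed_lt_of_noncentral (hinj : Function.Injective τ) (hirr : NoInvariant τ) (hp : 3 < p)
    (hx : orderOf x = p) (hgen : normalClosure ({x} : Set G) = ⊤) (A : Subgroup G) [A.Normal]
    [IsMulCommutative A] (hA : ¬ A ≤ center G) :
    2 * Module.finrank K (LinearMap.ker (τ x - 1)) < Module.finrank K W := by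
  classical
  have hA0 := card_ne_zero_of_normal τ hinj hirr A
  haveI := (card_chars (K := K) (A := A) hA0).1
  letI := Fintype.ofFinite (A →* Kˣ)
  set σ := τ.comp A.subtype with hσ
  obtain ⟨χ₀, hχ₀⟩ : ∃ χ, wsp σ χ ≠ ⊥ := by
    by_contra hno
    push Not at hno
    have := sum_wproj σ hA0
    rw [Finset.sum_eq_zero fun χ _ => (wproj_eq_zero_iff σ hA0 χ).mpr (hno χ), eq_comm, smul_eq_zero] at this
    obtain ⟨v, hv⟩ := exists_ne (0 : W)
    exact hv (by simpa using LinearMap.congr_fun (this.resolve_left hA0) v)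
  letI act := charAction (K := K) A
  let U : Submodule K W := ⨆ g : G, wsp σ (tw A g χ₀)
  have hUle : ∀ g, wsp σ (tw A g χ₀) ≤ U := fun g => le_iSup (fun g => wsp σ (tw A g χ₀)) g
  have hUtop : U = ⊤ := by
    refine (hirr U fun g u hu => ?_).resolve_left fun h => hχ₀ ?_
    · have hle : U ≤ U.comap (τ g) := iSup_le fun h v hv => hUle (g * h) (by
        rw [show tw A (g * h) χ₀ = tw A g (tw A h χ₀) from mul_smul g h χ₀]
        exact map_wsp τ A g hv)
      exact hle hu
    · have := hUle 1
      rw [show tw A 1 χ₀ = χ₀ from one_smul G χ₀, h, le_bot_iff] at this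
      exact this
  have horb : ∀ ψ, wsp σ ψ ≠ ⊥ → ∃ g : G, tw A g χ₀ = ψ := by
    intro ψ hψ
    by_contra hno
    push Not at hno
    apply hψ
    rw [← wproj_eq_zero_iff σ hA0]
    have hle : U ≤ LinearMap.ker (wproj σ ψ) := iSup_le fun g v hv =>
      LinearMap.mem_ker.mpr (wproj_of_mem_ne σ (hno g) hv)
    rw [hUtop, top_le_iff] at hle
    exact LinearMap.ker_eq_top.mp hle
  let X := MulAction.orbit G χ₀
  haveI : Nontrivial X := by
    by_contra hX
    rw [not_nontrivial_iff_subsingleton] at hX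
    apply hA
    intro a ha
    have hU : U ≤ wsp σ χ₀ := iSup_le fun g => by
      rw [show tw A g χ₀ = χ₀ from congrArg Subtype.val (hX.elim
        ⟨g • χ₀, MulAction.mem_orbit _ g⟩ ⟨χ₀, MulAction.mem_orbit_self χ₀⟩)]
    rw [hUtop, top_le_iff] at hU
    have hs : τ a = (χ₀ ⟨a, ha⟩ : K) • 1 := LinearMap.ext fun v =>
      ((show v ∈ wsp σ χ₀ by rw [hU]; trivial) ⟨a, ha⟩ : τ a v = _)
    refine mem_center_iff.mpr fun g => hinj ?_
    rw [map_mul, map_mul, hs, mul_smul_comm, smul_mul_assoc, mul_one, one_mul]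
  have hsupp : ∀ ψ, wsp σ ψ ≠ ⊥ ↔ ψ ∈ MulAction.orbit G χ₀ := fun ψ =>
    ⟨fun h => (horb ψ h).imp fun g hg => hg, fun ⟨g, hg⟩ => hg ▸ wsp_tw_ne_bot τ A g hχ₀⟩
  obtain ⟨h1, h2⟩ := fix_bound τ A hA0 hx (Module.finrank K (wsp σ χ₀)) fun ψ hψ => by
    obtain ⟨g, rfl⟩ := horb ψ hψ
    exact finrank_wsp_tw τ A g χ₀
  have e1 : Nat.card {χ : A →* Kˣ // wsp σ χ ≠ ⊥} = Nat.card X :=
    Nat.card_congr (Equiv.subtypeEquivRight hsupp)
  have e2 : Nat.card {χ : A →* Kˣ // wsp σ χ ≠ ⊥ ∧ tw A x χ = χ} = Nat.card {y : X // x • y = y} :=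
    Nat.card_congr
      { toFun := fun χ => ⟨⟨χ.1, (hsupp _).mp χ.2.1⟩, Subtype.ext χ.2.2⟩
        invFun := fun y => ⟨y.1.1, (hsupp _).mpr y.1.2, congrArg Subtype.val y.2⟩
        left_inv := fun χ => rfl
        right_inv := fun y => rfl }
  rw [e1, e2] at h1
  rw [e1] at h2
  have h3 := three_mul_fixed_le (X := X) hp hx hgen
  have hn : 0 < Module.finrank K W := Module.finrank_pos
  set F := Module.finrank K (LinearMap.ker (τ x - 1))
  set d := Module.finrank K (wsp σ χ₀)
  set n := Module.finrank K W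
  set f := Nat.card {y : X // x • y = y}
  set N := Nat.card X
  have hp5 : 5 ≤ p := by
    by_contra h
    interval_cases p
    exact absurd hpf.out (by norm_num)
  obtain ⟨r, rfl⟩ : ∃ r, p = r + 1 := ⟨p - 1, by omega⟩
  rw [Nat.add_sub_cancel] at h1
  by_contra hF
  have hr4 : 4 ≤ r := by omega
  have a1 : 3 * ((r + 1) * F) ≤ (3 + r) * (N * d) := by
    have m := Nat.mul_le_mul_right d (Nat.mul_le_mul_left r h3)
    linarith
  have a2 := Nat.mul_le_mul_left (3 + r) h2
  have a3 : (3 + r) * n ≤ (3 + r) * (2 * F) := Nat.mul_le_mul_left _ (by omega)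
  have a4 : (3 * r + 3) * F ≤ (2 * r + 6) * F := by linarith
  have := Nat.le_of_mul_le_mul_right a4 (by omega)
  omega

/-- The case in which all abelian normal subgroups are central. -/
theorem fixed_lt_of_central (hinj : Function.Injective τ) (hirr : NoInvariant τ) (hp : 3 < p)
    (hx : orderOf x = p) (hgen : normalClosure ({x} : Set G) = ⊤) (hxZ : x ∉ center G)
    (hcent : ∀ A : Subgroup G, A.Normal → IsMulCommutative A → A ≤ center G) :
    2 * Module.finrank K (LinearMap.ker (τ x - 1)) < Module.finrank K W := by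
  classical
  set Z := center G
  set π := QuotientGroup.mk' Z
  have hπ1 : ∀ g, π g = 1 ↔ g ∈ Z := fun g => QuotientGroup.eq_one_iff g
  have hZtop : Z ≠ ⊤ := fun h => hxZ (h ▸ mem_top x)
  haveI : Nontrivial (G ⧸ Z) := QuotientGroup.nontrivial_iff.mpr hZtop
  obtain ⟨V, hVn, -, hVne, hmin⟩ := Solvable.exists_minimal_normal (G := G ⧸ Z) (K := ⊤) top_ne_bot
  haveI := hVn
  haveI hVc : IsMulCommutative V := Solvable.isMulCommutative_of_minimal inferInstance hVne hmin
  obtain ⟨q, hq, hVq, hVp⟩ := Solvable.exists_prime_of_minimal hVne hmin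
  haveI := Fact.mk hq
  set E := V.comap π with hE
  haveI hEn : E.Normal := Normal.comap hVn π
  -- scalars on the centre
  choose c hc using fun z : Z => exists_scalar τ hirr z.2
  have hc0 : ∀ z, c z ≠ 0 := fun z h => rep_ne_zero τ (z : G) (by rw [hc z, h, zero_smul])
  have hcomm : ∀ e ∈ E, ∀ f ∈ E, ⁅e, f⁆ ∈ Z := fun e he f hf => by
    rw [← hπ1, map_commutatorElement, commutatorElement_eq_one_iff_mul_comm]
    exact congrArg Subtype.val (mul_comm' (⟨π e, he⟩ : V) ⟨π f, hf⟩)
  have hEnc : ¬ IsMulCommutative E := by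
    intro h
    refine hVne ((Subgroup.eq_bot_iff_forall V).mpr fun v hv => ?_)
    obtain ⟨g, rfl⟩ := QuotientGroup.mk'_surjective Z v
    exact (hπ1 g).mpr (hcent E inferInstance h hv)
  -- `q` is invertible
  have hqK : (q : K) ≠ 0 := by
    intro hq0
    apply hEnc
    refine PGroup.isMulCommutative_of_forall fun e he f hf => ?_
    have hz := hcomm e he f hf
    have hconj : e * f * e⁻¹ = ⁅e, f⁆ * f := by group
    have hpow := conj_pow_eq (mem_center_iff.mp hz e) hconj q
    have heq : e ^ q ∈ Z := by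
      rw [← hπ1, map_pow]; exact hVq _ he
    rw [show e ^ q * f * (e ^ q)⁻¹ = f by rw [← mem_center_iff.mp heq f]; group] at hpow
    have h1 : ⁅e, f⁆ ^ q = 1 := mul_eq_right.mp hpow.symm
    have h2 : (c ⟨_, hz⟩) ^ q = 1 := by
      have h3 : τ ⁅e, f⁆ ^ q = 1 := by rw [← map_pow, h1, map_one]
      rw [show τ ⁅e, f⁆ = c ⟨_, hz⟩ • 1 from hc ⟨_, hz⟩, smul_pow, one_pow] at h3
      obtain ⟨v, hv⟩ := exists_ne (0 : W)
      have h4 : c ⟨_, hz⟩ ^ q • v = (1 : K) • v := by simpa using LinearMap.congr_fun h3 v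
      exact smul_left_injective K hv h4
    have h5 : c ⟨_, hz⟩ = 1 := by
      haveI : CharP K q := by
        obtain ⟨r, hr⟩ := CharP.exists K
        rcases (Nat.dvd_prime hq).mp ((CharP.cast_eq_zero_iff K r q).mp hq0) with h | h
        · subst h; exact absurd rfl (CharP.char_ne_one K 1)
        · subst h; exact hr
      haveI : ExpChar K q := ExpChar.prime hq
      exact frobenius_inj K q (by simpa [frobenius_def] using h2)
    have h6 : ⁅e, f⁆ = 1 := hinj (by
      rw [map_one, show τ ⁅e, f⁆ = c ⟨_, hz⟩ • 1 from hc ⟨_, hz⟩, h5, one_smul])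
    exact commutatorElement_eq_one_iff_mul_comm.mp h6
  have hV0 : (Nat.card V : K) ≠ 0 := by
    obtain ⟨j, hj⟩ := hVp.exists_card_eq
    rw [hj, Nat.cast_pow]; exact pow_ne_zero _ hqK
  -- conjugation on endomorphisms
  let cj : G →* Module.End K (Module.End K W) :=
    { toFun := fun g => LinearMap.mulLeft K (τ g) ∘ₗ LinearMap.mulRight K (τ g⁻¹)
      map_one' := LinearMap.ext fun f => by
        show τ 1 * (f * τ (1 : G)⁻¹) = f
        rw [inv_one, map_one, one_mul, mul_one]
      map_mul' := fun g h => LinearMap.ext fun f => by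
        show τ (g * h) * (f * τ (g * h)⁻¹) = τ g * ((τ h * (f * τ h⁻¹)) * τ g⁻¹)
        simp only [mul_inv_rev, map_mul, mul_assoc] }
  have hker : Z ≤ cj.ker := fun z hz => LinearMap.ext fun f => by
    show τ z * (f * τ z⁻¹) = f
    rw [← mul_assoc, show τ z = c ⟨z, hz⟩ • 1 from hc ⟨z, hz⟩, smul_mul_assoc, one_mul, smul_mul_assoc,
      ← mul_smul_comm, show c ⟨z, hz⟩ • τ z⁻¹ = τ z * τ z⁻¹ by
        rw [show τ z = c ⟨z, hz⟩ • 1 from hc ⟨z, hz⟩, smul_mul_assoc, one_mul],
      ← map_mul, mul_inv_cancel, map_one, mul_one]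
  let ρ : G ⧸ Z →* Module.End K (Module.End K W) := QuotientGroup.lift Z cj hker
  have hρ : ∀ g f, ρ (π g) f = τ g * f * τ g⁻¹ := fun g f => (mul_assoc _ _ _).symm
  have hρmul : ∀ y a b, ρ y (a * b) = ρ y a * ρ y b := by
    intro y a b
    obtain ⟨g, rfl⟩ := QuotientGroup.mk'_surjective Z y
    rw [hρ, hρ, hρ, show τ g * a * τ g⁻¹ * (τ g * b * τ g⁻¹) = τ g * a * (τ g⁻¹ * τ g) * b * τ g⁻¹ by
      simp only [mul_assoc], ← map_mul τ g⁻¹ g, inv_mul_cancel, map_one]
    simp only [mul_assoc, mul_one, one_mul]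
  set σ := ρ.comp V.subtype with hσ
  -- lifts of `V` are eigenvectors
  have hout : ∀ v : V, π (Quotient.out (v : G ⧸ Z)) = v := fun v => QuotientGroup.out_eq' _
  set lift : V → G := fun v => Quotient.out (v : G ⧸ Z) with hlift
  have hlE : ∀ v, lift v ∈ E := fun v => by show π (lift v) ∈ V; rw [hout]; exact v.2
  have hcj : ∀ w v : V, σ w (τ (lift v)) =
      c ⟨⁅lift w, lift v⁆, hcomm _ (hlE w) _ (hlE v)⟩ • τ (lift v) := by
    intro w v
    show ρ (w : G ⧸ Z) (τ (lift v)) = _
    conv_lhs => rw [← hout w]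
    rw [hρ, ← map_mul, ← map_mul, show lift w * lift v * (lift w)⁻¹ = ⁅lift w, lift v⁆ * lift v by group,
      map_mul, hc ⟨⁅lift w, lift v⁆, hcomm _ (hlE w) _ (hlE v)⟩, smul_mul_assoc, one_mul]
  have hinjs : ∀ {a b : K} {g : G}, a • τ g = b • τ g → a = b := fun {a b g} h =>
    smul_left_injective K (rep_ne_zero τ g) h
  let B : V → (V →* Kˣ) := fun v =>
    { toFun := fun w => Units.mk0 _ (hc0 ⟨⁅lift w, lift v⁆, hcomm _ (hlE w) _ (hlE v)⟩)
      map_one' := Units.ext (hinjs (g := lift v) (by
        rw [Units.val_mk0, Units.val_one, one_smul, ← hcj, map_one]; rfl))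
      map_mul' := fun a b => Units.ext (hinjs (g := lift v) (by
        rw [Units.val_mul, Units.val_mk0, Units.val_mk0, Units.val_mk0, ← hcj, map_mul,
          Module.End.mul_apply, hcj b, map_smul, hcj a, smul_smul, mul_comm])) }
  have hBmem : ∀ v, τ (lift v) ∈ wsp σ (B v) := fun v w => hcj w v
  have hchar : ∀ {χ ψ : V →* Kˣ} {f : Module.End K W}, f ≠ 0 → f ∈ wsp σ χ → f ∈ wsp σ ψ → χ = ψ := by
    intro χ ψ f hf h1 h2
    exact MonoidHom.ext fun a => Units.ext (smul_left_injective K hf ((h1 a).symm.trans (h2 a)))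
  -- the lift of a product, and of a conjugate
  have hsame : ∀ (v : V) (g : G), π g = v → ∀ χ, τ g ∈ wsp σ χ → χ = B v := by
    intro v g hg χ hχ
    have hz : g * (lift v)⁻¹ ∈ Z := by rw [← hπ1, map_mul, map_inv, hg, hout, mul_inv_cancel]
    have he : τ g = c ⟨_, hz⟩ • τ (lift v) := by
      rw [← one_mul (τ (lift v)), ← smul_mul_assoc, ← hc ⟨_, hz⟩, ← map_mul, inv_mul_cancel_right]
    exact hchar (rep_ne_zero τ g) hχ (he ▸ (wsp σ (B v)).smul_mem _ (hBmem v))
  have hBmul : ∀ v v', B (v * v') = B v * B v' := by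
    intro v v'
    refine (hsame (v * v') (lift v * lift v') (by rw [map_mul, hout, hout]; rfl) _ fun w => ?_).symm
    show ρ (w : G ⧸ Z) _ = _
    rw [map_mul, hρmul]
    show σ w (τ (lift v)) * σ w (τ (lift v')) = _
    rw [hBmem v w, hBmem v' w, smul_mul_smul_comm, MonoidHom.mul_apply, Units.val_mul]
  let Bh : V →* (V →* Kˣ) := MonoidHom.mk' B hBmul
  have hBinj : Function.Injective Bh := by
    refine (injective_iff_map_eq_one Bh).mpr fun v hv => ?_
    have hv' : ∀ w : V, c ⟨⁅lift w, lift v⁆, hcomm _ (hlE w) _ (hlE v)⟩ = 1 := fun w =>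
      congrArg Units.val (DFunLike.congr_fun hv w)
    have hA : lift v ∈ E ⊓ centralizer (E : Set G) := by
      refine Subgroup.mem_inf.mpr ⟨hlE v, mem_centralizer_iff.mpr fun f hf => ?_⟩
      have h1 : ⁅lift ⟨π f, hf⟩, lift v⁆ = 1 := hinj (by
        rw [map_one, hc ⟨_, hcomm _ (hlE _) _ (hlE v)⟩, hv', one_smul])
      rw [commutatorElement_eq_one_iff_mul_comm] at h1
      have hz : f * (lift ⟨π f, hf⟩)⁻¹ ∈ Z := by rw [← hπ1, map_mul, map_inv, hout, mul_inv_cancel]
      calc f * lift v = (f * (lift ⟨π f, hf⟩)⁻¹) * (lift ⟨π f, hf⟩ * lift v) := by group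
        _ = (f * (lift ⟨π f, hf⟩)⁻¹) * lift v * lift ⟨π f, hf⟩ := by rw [h1]; group
        _ = lift v * f := by rw [← mem_center_iff.mp hz (lift v)]; group
    have hAn : (E ⊓ centralizer (E : Set G)).Normal := inferInstance
    have hAc : IsMulCommutative ↥(E ⊓ centralizer (E : Set G)) :=
      PGroup.isMulCommutative_of_forall fun a ha b hb => (mem_centralizer_iff.mp hb.2 a ha.1)
    exact Subtype.ext ((hout v).symm.trans ((hπ1 _).mpr (hcent _ hAn hAc hA)))
  have hBbij : Function.Bijective Bh := by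
    haveI := (card_chars (K := K) (A := V) hV0).1
    exact (Nat.bijective_iff_injective_and_card Bh).mpr ⟨hBinj, ((card_chars (K := K) (A := V) hV0).2).symm⟩
  -- all weight spaces have one dimension
  have hle : ∀ χ v, Module.finrank K (wsp σ χ) ≤ Module.finrank K (wsp σ (χ * B v)) := by
    intro χ v
    refine LinearMap.finrank_le_finrank_of_injective
      (f := (LinearMap.mulRight K (τ (lift v))).restrict fun f hf w => ?_) fun a b h => Subtype.ext ?_
    · show ρ (w : G ⧸ Z) (f * τ (lift v)) = _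
      rw [hρmul]
      show σ w f * σ w (τ (lift v)) = _
      rw [hf w, hBmem v w, smul_mul_smul_comm, MonoidHom.mul_apply, Units.val_mul]
      rfl
    · have h' : (a : Module.End K W) * τ (lift v) = b * τ (lift v) := congrArg Subtype.val h
      have h'' := congrArg (fun y => y * τ (lift v)⁻¹) h'
      simpa [mul_assoc, ← map_mul] using h''
  have hd : ∀ χ, Module.finrank K (wsp σ χ) = Module.finrank K (wsp σ 1) := fun χ => by
    obtain ⟨v, hv⟩ := hBbij.2 χ⁻¹
    obtain ⟨w, hw⟩ := hBbij.2 χ
    refine le_antisymm ((hle χ v).trans (le_of_eq ?_)) ((hle 1 w).trans (le_of_eq ?_))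
    · rw [show χ * B v = 1 from MonoidHom.ext fun a => (congrArg (χ a * ·) (DFunLike.congr_fun hv a)).trans (mul_inv_cancel _)]
    · rw [show 1 * B w = χ from MonoidHom.ext fun a => (one_mul _).trans (DFunLike.congr_fun hw a)]
  have hd0 : 0 < Module.finrank K (wsp σ 1) := by
    refine Module.finrank_pos_iff_exists_ne_zero.mpr ⟨⟨1, fun w => ?_⟩, fun h => ?_⟩
    · show ρ (w : G ⧸ Z) 1 = _
      rw [← hout w, hρ, mul_one, ← map_mul, mul_inv_cancel, map_one]
      simp
    · exact one_ne_zero (congrArg Subtype.val h)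
  have hne : ∀ χ, wsp σ χ ≠ ⊥ := fun χ h => by
    have := hd χ; rw [h, finrank_bot] at this; omega
  -- the element `x` in the quotient
  set x' := π x with hx'
  have hx'1 : x' ≠ 1 := fun h => hxZ ((hπ1 x).mp h)
  have hx'p : orderOf x' = p :=
    orderOf_eq_prime (by rw [hx', ← map_pow, ← hx, pow_orderOf_eq_one, map_one]) hx'1
  have htwB : ∀ (v : V), tw V x' (B v) = B (MulAut.conjNormal x' v) := by
    intro v
    refine hsame (MulAut.conjNormal x' v) (x * lift v * x⁻¹)
      (by rw [map_mul, map_mul, map_inv, hout]; rfl) _ ?_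
    have := map_wsp ρ V x' (hBmem v)
    rw [hx', hρ, ← map_mul, ← map_mul] at this
    exact this
  obtain ⟨h1, h2⟩ := fix_bound ρ V hV0 hx'p (Module.finrank K (wsp σ 1)) fun χ _ => hd χ
  set Cx := V ⊓ centralizer ({x'} : Set (G ⧸ Z)) with hCx
  have e1 : Nat.card {χ : V →* Kˣ // wsp σ χ ≠ ⊥} = Nat.card V :=
    (Nat.card_congr (Equiv.subtypeUnivEquiv hne)).trans (card_chars (K := K) (A := V) hV0).2
  have e2 : Nat.card {χ : V →* Kˣ // wsp σ χ ≠ ⊥ ∧ tw V x' χ = χ} = Nat.card Cx := by
    symm
    refine Nat.card_eq_of_bijective (fun v : Cx => ⟨B ⟨v.1, v.2.1⟩, hne _, ?_⟩) ⟨fun a b h => ?_, fun χ => ?_⟩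
    · rw [htwB]
      refine congrArg B (Subtype.ext ?_)
      show x' * (v : G ⧸ Z) * x'⁻¹ = v
      rw [← mem_centralizer_singleton_iff.mp v.2.2, mul_inv_cancel_right]
    · exact Subtype.ext (congrArg (fun y : V => (y : G ⧸ Z)) (hBinj (congrArg Subtype.val h)))
    · obtain ⟨v, hv⟩ := hBbij.2 χ.1
      have hv' : B v = χ.1 := hv
      have hfix : MulAut.conjNormal x' v = v := hBinj (by
        show B _ = B v
        rw [← htwB, hv']; exact χ.2.2)
      refine ⟨⟨v.1, v.2, mem_centralizer_singleton_iff.mpr ?_⟩, Subtype.ext hv'⟩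
      have : x' * (v : G ⧸ Z) * x'⁻¹ = v := congrArg Subtype.val hfix
      exact (mul_inv_eq_iff_eq_mul.mp this).symm
  rw [e1, e2] at h1
  rw [e1] at h2
  -- the index of the centraliser
  have hxgen : ∀ N : Subgroup (G ⧸ Z), N.Normal → x' ∈ N → N = ⊤ := by
    intro N hN hxN
    have : N.comap π = ⊤ :=
      top_le_iff.mp (hgen ▸ normalClosure_le_normal (Set.singleton_subset_iff.mpr (show x ∈ N.comap π from hxN)))
    rw [← map_comap_eq_self_of_surjective (QuotientGroup.mk'_surjective Z) N, this, map_top_of_surjective _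
      (QuotientGroup.mk'_surjective Z)]
  have hnc : ¬ V ≤ centralizer ({x'} : Set (G ⧸ Z)) := by
    intro h
    have hcV : centralizer (V : Set (G ⧸ Z)) = ⊤ := hxgen _ inferInstance
      (mem_centralizer_iff.mpr fun v hv => (mem_centralizer_singleton_iff.mp (h hv)))
    obtain ⟨v, hv1⟩ := Subgroup.ne_bot_iff_exists_ne_one.mp hVne
    have hvc : ∀ g, g * (v : G ⧸ Z) = v * g := fun g =>
      (mem_centralizer_iff.mp (show g ∈ centralizer (V : Set (G ⧸ Z)) by rw [hcV]; trivial) v v.2).symm
    haveI : (zpowers (v : G ⧸ Z)).Normal := ⟨fun a ha g => by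
      obtain ⟨k, rfl⟩ := mem_zpowers_iff.mp ha
      rw [((show Commute g (v : G ⧸ Z) from hvc g).zpow_right k).eq, mul_inv_cancel_right]
      exact ha⟩
    have hV : zpowers (v : G ⧸ Z) = V := by
      refine (hmin _ inferInstance (zpowers_le.mpr v.2)).resolve_left fun hb => hv1 (Subtype.ext ?_)
      exact mem_bot.mp (hb ▸ mem_zpowers (v : G ⧸ Z))
    apply hEnc
    refine PGroup.isMulCommutative_of_forall fun a ha b hb => ?_
    have hcase : ∀ a ∈ E, ∃ k : ℤ, ∃ z ∈ Z, a = lift v ^ k * z := by
      intro a ha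
      obtain ⟨k, hk⟩ := mem_zpowers_iff.mp (show π a ∈ zpowers (v : G ⧸ Z) by rw [hV]; exact ha)
      refine ⟨k, (lift v ^ k)⁻¹ * a, ?_, by group⟩
      rw [← hπ1, map_mul, map_inv, map_zpow, hout, hk, inv_mul_cancel]
    obtain ⟨i, z, hz, rfl⟩ := hcase a ha
    obtain ⟨j, z', hz', rfl⟩ := hcase b hb
    have h1 : Commute z (lift v ^ j * z') := (mem_center_iff.mp hz _).symm
    have h2 : Commute (lift v ^ i) z' := mem_center_iff.mp hz' _
    exact (((Commute.refl (lift v)).zpow_zpow i j).mul_right h2).mul_left h1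
  have hCV : Cx ≤ V := inf_le_left
  obtain ⟨j, hj⟩ := hVp.exists_card_eq
  have hmul : Nat.card Cx * Cx.relIndex V = Nat.card V := by
    rw [← Nat.card_congr (subgroupOfEquivOfLe hCV).toEquiv]; exact card_mul_index _
  obtain ⟨k, -, hk⟩ := (Nat.dvd_prime_pow hq).mp (Dvd.intro_left _ (hmul.trans hj))
  have hk0 : k ≠ 0 := fun h => hnc fun v hv => by
    rw [h, pow_zero, relIndex_eq_one] at hk
    exact (hk hv).2
  have hk1 : k ≠ 1 := by
    intro h
    rw [h, pow_one] at hk
    have hu : ∀ v : V, MulAut.conjNormal x' v * v⁻¹ ∈ Cx.subgroupOf V := by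
      intro v
      set u := MulAut.conjNormal x' v * v⁻¹
      have hBu : ∀ w ∈ Cx.subgroupOf V, B u w = 1 := by
        intro w hw
        rw [show B u = Bh u from rfl, map_mul, map_inv, MonoidHom.mul_apply, MonoidHom.inv_apply,
          show Bh (MulAut.conjNormal x' v) = tw V x' (B v) from (htwB v).symm, tw_apply,
          show MulAut.conjNormal x'⁻¹ w = w from Subtype.ext (by
            have := mem_centralizer_singleton_iff.mp (mem_subgroupOf.mp hw).2
            simp [mul_assoc, this])]
        exact mul_inv_cancel _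
      by_contra hu'
      have hB1 : B u = 1 := by
        have hself : u ∈ (B u).ker := by
          refine MonoidHom.mem_ker.mpr (Units.ext (hinjs (g := lift u) ?_))
          show c ⟨⁅lift u, lift u⁆, _⟩ • τ (lift u) = ((1 : Kˣ) : K) • τ (lift u)
          rw [Units.val_one, one_smul, ← hcj]
          show ρ (u : G ⧸ Z) (τ (lift u)) = τ (lift u)
          rw [← hout u, hρ, ← map_mul, ← map_mul,
            show lift u * lift u * (lift u)⁻¹ = lift u by group]
        have hlt : Cx.subgroupOf V < (B u).ker :=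
          lt_of_le_of_ne (fun w hw => MonoidHom.mem_ker.mpr (hBu w hw)) fun e => hu' (e ▸ hself)
        have hdiv := Subgroup.index_dvd_of_le hlt.le
        rcases (Nat.dvd_prime hq).mp ((show (Cx.subgroupOf V).index = q from hk) ▸ hdiv) with h' | h'
        · exact MonoidHom.ext fun w => MonoidHom.mem_ker.mp (show w ∈ (B u).ker by
            rw [index_eq_one.mp h']; trivial)
        · refine absurd (Subgroup.eq_of_le_of_card_ge hlt.le ?_) hlt.ne
          have h1 := card_mul_index (Cx.subgroupOf V)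
          have h2 := card_mul_index (B u).ker
          rw [show (Cx.subgroupOf V).index = q from hk] at h1
          rw [h'] at h2
          exact (Nat.eq_of_mul_eq_mul_right hq.pos (h2.trans h1.symm)).le
      exact hu' (by
        rw [show u = 1 from hBinj (by show B u = Bh 1; rw [hB1, map_one])]; exact one_mem _)
    have hpowu : ∀ (v : V) (k : ℕ), x' ^ k * (v : G ⧸ Z) * (x' ^ k)⁻¹ =
        ((MulAut.conjNormal x' v * v⁻¹ : V) : G ⧸ Z) ^ k * v := by
      intro v k
      refine conj_pow_eq (mem_centralizer_singleton_iff.mp (mem_subgroupOf.mp (hu v)).2).symm ?_ k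
      simp [mul_assoc]
    by_cases hpq : q = p
    · subst hpq
      have hq5 : 5 ≤ q := by by_contra h; interval_cases q; exact absurd hq (by norm_num)
      have hVel : IsElementaryAbelian q V := ⟨hVc, hVq⟩
      have hquad : ⁅⁅V, zpowers x'⁆, zpowers x'⁆ = ⊥ := by
        refine commutator_eq_bot_iff_le_centralizer.mpr ?_
        rw [commutator_le]
        intro v hv y hy
        obtain ⟨k, hk'⟩ := (isOfFinOrder_of_finite x').mem_powers_iff_mem_zpowers.mpr hy
        have hy' : x' ^ k = y := hk'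
        have hmem := (mem_subgroupOf.mp (hu ⟨v, hv⟩)).2
        rw [show ⁅v, y⁆ = v * (x' ^ k * v * (x' ^ k)⁻¹)⁻¹ by rw [← hy']; group, hpowu ⟨v, hv⟩ k, mul_inv_rev,
          mul_inv_cancel_left]
        refine inv_mem (pow_mem (mem_centralizer_iff.mpr fun z hz => ?_) k)
        obtain ⟨i, rfl⟩ := mem_zpowers_iff.mp hz
        exact ((show Commute x' _ from (mem_centralizer_singleton_iff.mp hmem).symm).zpow_left i).eq
      have hst := Quadratic.isPStableOn_of_pSolvable (G := G ⧸ Z) (p := q) hq5
        PCore.isPSolvable_of_isSolvable V hVel x' hquad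
      have hcore : pCore q ((G ⧸ Z) ⧸ centralizer (V : Set (G ⧸ Z))) = ⊥ := by
        set C := centralizer (V : Set (G ⧸ Z))
        set D := (pCore q ((G ⧸ Z) ⧸ C)).comap (QuotientGroup.mk' C) with hD
        haveI : D.Normal := Normal.comap PCore.pCore_normal _
        obtain ⟨S⟩ := (inferInstance : Nonempty (Sylow q (G ⧸ Z)))
        have hVS : V ≤ (S : Subgroup (G ⧸ Z)) := (PCore.le_pCore hVp).trans (PCore.pCore_le_sylow S)
        obtain ⟨z, hz1⟩ := Subgroup.ne_bot_iff_exists_ne_one.mp (PGroup.inf_center_ne_bot S.isPGroup'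
          (V.subgroupOf (S : Subgroup (G ⧸ Z))) fun h => hVne (by
            rw [subgroupOf_eq_bot] at h; exact disjoint_self.mp (h.mono_right hVS)))
        have hDS : D ≤ (S : Subgroup (G ⧸ Z)) ⊔ C := by
          have h1 := comap_mono (f := QuotientGroup.mk' C)
            (PCore.pCore_le_sylow (p := q) (S.mapSurjective (QuotientGroup.mk'_surjective C)))
          rw [Sylow.coe_mapSurjective, comap_map_eq, QuotientGroup.ker_mk'] at h1
          exact h1
        have hW : V ⊓ centralizer (D : Set (G ⧸ Z)) = V := by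
          refine (hmin _ inferInstance inf_le_left).resolve_left fun hb => hz1 (Subtype.ext (Subtype.ext ?_))
          refine mem_bot.mp (hb ▸ Subgroup.mem_inf.mpr ⟨z.2.1, mem_centralizer_iff.mpr fun d hd => ?_⟩)
          have hle : (S : Subgroup (G ⧸ Z)) ⊔ C ≤ centralizer {((z : (S : Subgroup (G ⧸ Z))) : G ⧸ Z)} := by
            refine sup_le (fun s hs => mem_centralizer_singleton_iff.mpr ?_) (centralizer_le ?_)
            · exact congrArg Subtype.val (mem_center_iff.mp z.2.2 ⟨s, hs⟩)
            · exact Set.singleton_subset_iff.mpr z.2.1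
          exact mem_centralizer_singleton_iff.mp (hle (hDS hd))
        have hDC : D ≤ C := le_centralizer_iff.mp (hW ▸ inf_le_right)
        rw [eq_bot_iff]
        intro y hy
        obtain ⟨g, rfl⟩ := QuotientGroup.mk'_surjective C y
        exact mem_bot.mpr ((QuotientGroup.eq_one_iff g).mpr (hDC hy))
      rw [hcore, mem_bot, QuotientGroup.eq_one_iff] at hst
      exact hnc fun v hv => mem_centralizer_singleton_iff.mpr (mem_centralizer_iff.mp hst v hv)
    · apply hnc
      intro v hv
      have h3 := hpowu ⟨v, hv⟩ p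
      rw [← hx'p, pow_orderOf_eq_one, one_mul, inv_one, mul_one, hx'p] at h3
      set u := MulAut.conjNormal x' (⟨v, hv⟩ : V) * (⟨v, hv⟩ : V)⁻¹ with hudef
      have hu1 : (u : G ⧸ Z) = 1 := orderOf_eq_one_iff.mp (Nat.eq_one_of_dvd_coprimes
        ((Nat.coprime_primes hq hpf.out).mpr hpq) (orderOf_dvd_of_pow_eq_one (hVq _ u.2))
        (orderOf_dvd_of_pow_eq_one (mul_eq_right.mp h3.symm)))
      refine mem_centralizer_singleton_iff.mpr ?_
      have h4 : x' * v * x'⁻¹ * v⁻¹ = 1 := hu1
      exact (mul_inv_eq_iff_eq_mul.mp (mul_inv_eq_one.mp h4)).symm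
  have hbound : (p = 5 → 16 ≤ q ^ k) ∧ 8 ≤ q ^ k := by
    by_cases hpq : q = p
    · subst hpq
      have : 5 ≤ q := by by_contra h; interval_cases q; exact absurd hq (by norm_num)
      have h25 : 5 ^ 2 ≤ q ^ k := (Nat.pow_le_pow_left this 2).trans (Nat.pow_le_pow_right hq.pos (by omega))
      exact ⟨fun _ => by omega, by omega⟩
    · have hdvd : p ∣ q ^ k - 1 := by
        set P := zpowers x'
        have hP : Nat.card P = p := by rw [Nat.card_zpowers, hx'p]
        letI : MulAction P V :=
          { smul := fun a v => MulAut.conjNormal (a : G ⧸ Z) v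
            one_smul := fun v => show MulAut.conjNormal ((1 : P) : G ⧸ Z) v = v by simp
            mul_smul := fun a b v => show MulAut.conjNormal ((a * b : P) : G ⧸ Z) v = _ by
              rw [Subgroup.coe_mul, map_mul]; rfl }
        have h := card_orbits (X := V) hP
        rw [show Nat.card (MulAction.fixedPoints P V) = Nat.card Cx from ?_, ← hmul, hk] at h
        · have hcop : Nat.Coprime p (Nat.card Cx) := by
            obtain ⟨i, hi⟩ := (hVp.to_le hCV).exists_card_eq
            rw [hi]; exact Nat.Coprime.pow_right i ((Nat.coprime_primes hpf.out hq).mpr (Ne.symm hpq))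
          refine hcop.dvd_of_dvd_mul_left ?_
          have hpc : p ∣ p * Nat.card Cx := dvd_mul_right _ _
          have hq1 : 1 ≤ q ^ k := Nat.one_le_pow _ _ hq.pos
          obtain ⟨r, hr⟩ : ∃ r, q ^ k = r + 1 := ⟨q ^ k - 1, by omega⟩
          rw [hr] at h ⊢
          rw [Nat.add_sub_cancel]
          obtain ⟨s, hs⟩ : ∃ s, p = s + 1 := ⟨p - 1, by omega⟩
          rw [hs, Nat.add_sub_cancel] at h
          have : p * Nat.card (MulAction.orbitRel.Quotient P V) = Nat.card Cx * r + p * Nat.card Cx := by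
            rw [hs, h]; ring
          exact (Nat.dvd_add_left hpc).mp (this ▸ dvd_mul_right _ _)
        refine Nat.card_congr
          { toFun := fun v => ⟨v.1.1, v.1.2, mem_centralizer_singleton_iff.mpr ?_⟩
            invFun := fun v => ⟨⟨v.1, v.2.1⟩, fun a => Subtype.ext ?_⟩
            left_inv := fun v => rfl
            right_inv := fun v => rfl }
        · exact (mul_inv_eq_iff_eq_mul.mp (congrArg Subtype.val (v.2 ⟨x', mem_zpowers x'⟩))).symm
        · obtain ⟨i, hi⟩ := mem_zpowers_iff.mp a.2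
          show (a : G ⧸ Z) * v * (a : G ⧸ Z)⁻¹ = v
          rw [← hi, ((show Commute x' (v : G ⧸ Z) from
            (mem_centralizer_singleton_iff.mp v.2.2).symm).zpow_left i).eq, mul_inv_cancel_right]
      have hq2 := hq.two_le
      have hk2 : 2 ≤ k := by omega
      have h16 : q ^ k < 16 → q ^ k = 4 ∨ q ^ k = 8 ∨ q ^ k = 9 := by
        intro hlt
        have hk4 : k < 4 := by
          by_contra hk4
          have := (Nat.pow_le_pow_left hq2 4).trans (Nat.pow_le_pow_right hq.pos (by omega : 4 ≤ k))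
          omega
        have hq4 : q < 4 := by
          by_contra hq4
          have := (Nat.pow_le_pow_left (by omega : 4 ≤ q) 2).trans (Nat.pow_le_pow_right hq.pos hk2)
          omega
        interval_cases q <;> interval_cases k <;> omega
      refine ⟨fun h5 => ?_, ?_⟩
      · by_contra hlt
        subst h5
        rcases h16 (by omega) with e | e | e <;> rw [e] at hdvd <;> norm_num at hdvd
      · by_contra hlt
        rcases h16 (by omega) with e | e | e
        · rw [e] at hdvd
          have := Nat.le_of_dvd (by norm_num) hdvd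
          omega
        all_goals omega
  -- the commutant bound
  have hT : τ x ≠ 1 := fun h => hxZ (hinj (h.trans (map_one τ).symm) ▸ one_mem _)
  have hsq := sq_lt_finrank_commutant hT
  have hker' : LinearMap.ker (ρ x' - 1) = HallHigman.commutant (τ x) := by
    ext f
    rw [LinearMap.mem_ker, LinearMap.sub_apply, Module.End.one_apply, sub_eq_zero, hx', hρ,
      HallHigman.mem_commutant]
    constructor
    · intro h
      conv_rhs => rw [← h]
      rw [mul_assoc (τ x * f), ← map_mul, inv_mul_cancel, map_one, mul_one]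
    · intro h
      rw [h, mul_assoc, ← map_mul, mul_inv_cancel, map_one, mul_one]
  rw [hker'] at h1
  rw [Module.finrank_linearMap] at h2
  have hcard : Nat.card V = Nat.card Cx * q ^ k := by rw [← hk, hmul]
  rw [hcard] at h1 h2
  have hcpos : 0 < Nat.card Cx := Nat.card_pos
  set a := Module.finrank K (LinearMap.ker (τ x - 1))
  set n := Module.finrank K W
  set F := Module.finrank K (HallHigman.commutant (τ x))
  set d := Module.finrank K (wsp σ 1)
  set cc := Nat.card Cx
  set i := q ^ k
  have h4 : 4 * F ≤ n * n := by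
    refine Nat.le_of_mul_le_mul_left ?_ (Nat.Prime.pos hpf.out)
    by_cases h5 : p = 5
    · subst h5
      have := hbound.1 rfl
      have e : 4 * 4 * cc * d ≤ cc * i * d := by
        refine Nat.mul_le_mul_right _ ?_
        rw [mul_comm cc i]; exact Nat.mul_le_mul_right _ this
      norm_num at h1
      linarith
    · have hp7 : 7 ≤ p := by
        by_contra h
        interval_cases p
        · norm_num at hpf; exact absurd hpf.out (by norm_num)
        · exact h5 rfl
        · exact absurd hpf.out (by norm_num)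
      have e : 8 * (cc * d) ≤ i * (cc * d) := Nat.mul_le_mul_right _ hbound.2
      obtain ⟨r, rfl⟩ : ∃ r, p = r + 1 := ⟨p - 1, by omega⟩
      rw [Nat.add_sub_cancel] at h1
      have m1 := Nat.mul_le_mul_left r e
      have m2 : (8 + r) * (cc * i * d) ≤ (2 * r + 2) * (cc * i * d) := Nat.mul_le_mul_right _ (by omega)
      have m3 := Nat.mul_le_mul_left (2 * r + 2) h2
      linarith
  by_contra hlt
  have : n * n ≤ 4 * (a * a) := by
    have := Nat.mul_le_mul (Nat.le_of_not_lt hlt) (Nat.le_of_not_lt hlt)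
    linarith
  rw [pow_two] at hsq
  omega

/-- A faithful irreducible solvable group over an algebraically closed field generated by the conjugates of an
element of prime order `> 3`: that element fixes less than half. -/
theorem two_finrank_fixed_lt_of_isAlgClosed (hinj : Function.Injective τ) (hirr : NoInvariant τ) (hp : 3 < p)
    (hx : orderOf x = p) (hgen : normalClosure ({x} : Set G) = ⊤) :
    2 * Module.finrank K (LinearMap.ker (τ x - 1)) < Module.finrank K W := by
  have hn : 0 < Module.finrank K W := Module.finrank_pos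
  by_cases hxZ : x ∈ center G
  · rcases hirr (LinearMap.ker (τ x - 1)) (fun g u hu => by
      have h := sub_eq_zero.mp (LinearMap.mem_ker.mp hu : (τ x - 1) u = 0)
      refine LinearMap.mem_ker.mpr (sub_eq_zero.mpr ?_)
      show τ x (τ g u) = τ g u
      rw [← Module.End.mul_apply, ← map_mul, ← mem_center_iff.mp hxZ g, map_mul, Module.End.mul_apply]
      exact congrArg (τ g) h) with h | h
    · rw [h, finrank_bot]; simpa using hn
    · exfalso
      have h1 : τ x = 1 := sub_eq_zero.mp (LinearMap.ker_eq_top.mp h)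
      have h2 : x = 1 := hinj (h1.trans (map_one τ).symm)
      rw [h2, orderOf_one] at hx
      omega
  by_cases hA : ∀ A : Subgroup G, A.Normal → IsMulCommutative A → A ≤ center G
  · exact fixed_lt_of_central τ hinj hirr hp hx hgen hxZ hA
  · push Not at hA
    obtain ⟨A, hAn, hAc, hA⟩ := hA
    exact fixed_lt_of_noncentral τ hinj hirr hp hx hgen A hA

end Cfsg.Agent.FixedDim
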