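import Mathlib
import Cfsg.Agent.Lib.FixedDim.Irreducible

/-!
# The fixed space of an element of prime order `> 3`, over any field of coefficients

`two_finrank_fixed_lt`: for a finite solvable group generated by the conjugates of `x` and a faithful irreducible
representation over any field, `x` fixes less than half.
-/

set_option autoImplicit false
set_option linter.style.haveILetI false

namespace Cfsg.Agent.FixedDim

open Subgroup TensorProduct

variable {G : Type*} [Group G] [Finite G]

/-- Every abelian non-trivial normal subgroup has invertible order and sum zero in the representation. -/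
def NoFixed {K : Type*} [Field K] {W : Type*} [AddCommGroup W] [Module K W] (τ : G →* Module.End K W) : Prop :=
  ∀ N : Subgroup G, N.Normal → IsMulCommutative N → N ≠ ⊥ →
    (Nat.card N : K) ≠ 0 ∧ ∀ _i : Fintype N, ∑ a : N, τ (a : G) = 0

theorem lt_of_noFixed [Group.IsSolvable G] {p : ℕ} [Fact p.Prime] (hp : 3 < p) {x : G} (hx : orderOf x = p)
    (hgen : normalClosure ({x} : Set G) = ⊤) {K : Type*} [Field K] [IsAlgClosed K] :
    ∀ (n : ℕ) {W : Type*} [AddCommGroup W] [Module K W] [FiniteDimensional K W] [Nontrivial W]
      (τ : G →* Module.End K W), Module.finrank K W = n → NoFixed τ →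
      2 * Module.finrank K (LinearMap.ker (τ x - 1)) < Module.finrank K W := by
  intro n
  induction n using Nat.strong_induction_on with
  | _ n ih =>
  intro W _ _ _ _ τ hn hτ
  classical
  by_cases hirr : NoInvariant τ
  · refine two_finrank_fixed_lt_of_isAlgClosed τ ?_ hirr hp hx hgen
    by_contra hinj
    have hker : τ.ker ≠ ⊥ := fun h => hinj (τ.ker_eq_bot_iff.mp h)
    obtain ⟨N, hNn, hNle, hNne, hmin⟩ := Solvable.exists_minimal_normal hker
    haveI := hNn
    haveI := Solvable.isMulCommutative_of_minimal (N := N) inferInstance hNne hmin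
    obtain ⟨h0, hsum⟩ := hτ N hNn inferInstance hNne
    letI := Fintype.ofFinite N
    have h1 := hsum inferInstance
    rw [Finset.sum_congr rfl fun (a : N) _ => (show τ (a : G) = 1 from hNle a.2), Finset.sum_const,
      Finset.card_univ, ← Nat.card_eq_fintype_card, ← Nat.cast_smul_eq_nsmul K, smul_eq_zero] at h1
    obtain ⟨v, hv⟩ := exists_ne (0 : W)
    exact hv (by simpa using LinearMap.congr_fun (h1.resolve_left h0) v)
  · simp only [NoInvariant, not_forall, not_or] at hirr
    obtain ⟨U, hU, hbot, htop⟩ := hirr
    have hU' : ∀ g, U ≤ U.comap (τ g) := fun g u hu => hU g u hu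
    let τU : G →* Module.End K U :=
      { toFun := fun g => (τ g).restrict (hU g)
        map_one' := by ext u; simp
        map_mul' := fun g h => by ext u; simp [LinearMap.restrict_coe_apply] }
    let τQ : G →* Module.End K (W ⧸ U) :=
      { toFun := fun g => U.mapQ U (τ g) (hU' g)
        map_one' := by ext u; simp
        map_mul' := fun g h => by ext u; simp }
    haveI : Nontrivial U := Submodule.nontrivial_iff_ne_bot.mpr hbot
    haveI : Nontrivial (W ⧸ U) := Submodule.Quotient.nontrivial_iff.mpr htop
    have hdim := Submodule.finrank_quotient_add_finrank U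
    have hUpos : 0 < Module.finrank K U := Module.finrank_pos
    have hQpos : 0 < Module.finrank K (W ⧸ U) := Module.finrank_pos
    have h1 := ih (Module.finrank K U) (by omega) τU rfl fun N h1 h2 h3 => ⟨(hτ N h1 h2 h3).1, fun i => by
      ext u
      have h4 := LinearMap.congr_fun ((hτ N h1 h2 h3).2 i) (u : W)
      simpa [τU, LinearMap.sum_apply, LinearMap.restrict_coe_apply] using h4⟩
    have h2 := ih (Module.finrank K (W ⧸ U)) (by omega) τQ rfl fun N h1 h2 h3 => ⟨(hτ N h1 h2 h3).1, fun i => by
      refine Submodule.linearMap_qext _ (LinearMap.ext fun u => ?_)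
      have h4 := congrArg (Submodule.Quotient.mk (p := U)) (LinearMap.congr_fun ((hτ N h1 h2 h3).2 i) u)
      rw [LinearMap.sum_apply, ← Submodule.mkQ_apply, map_sum] at h4
      simpa [τQ, LinearMap.sum_apply] using h4⟩
    set F := LinearMap.ker (τ x - 1)
    let φ : F →ₗ[K] W ⧸ U := U.mkQ.domRestrict F
    have h3 : Module.finrank K (LinearMap.ker φ) ≤ Module.finrank K (LinearMap.ker (τU x - 1)) := by
      refine LinearMap.finrank_le_finrank_of_injective (f :=
        { toFun := fun u => ⟨⟨((u : F) : W), (Submodule.Quotient.mk_eq_zero U).mp u.2⟩, ?_⟩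
          map_add' := fun a b => rfl
          map_smul' := fun c a => rfl }) fun a b h => Subtype.ext (Subtype.ext (congrArg (fun y => ((y.1 : U) : W)) h))
      refine LinearMap.mem_ker.mpr (Subtype.ext ?_)
      exact (LinearMap.mem_ker.mp (u : F).2 : (τ x - 1) ((u : F) : W) = 0)
    have h4 : Module.finrank K (LinearMap.range φ) ≤ Module.finrank K (LinearMap.ker (τQ x - 1)) := by
      refine Submodule.finrank_mono ?_
      rintro _ ⟨u, rfl⟩
      have hu : τ x (u : W) = u := sub_eq_zero.mp (LinearMap.mem_ker.mp u.2 : (τ x - 1) (u : W) = 0)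
      refine LinearMap.mem_ker.mpr ?_
      show τQ x (φ u) - φ u = 0
      refine sub_eq_zero.mpr ?_
      exact congrArg (Submodule.Quotient.mk (p := U)) hu
    have h5 := LinearMap.finrank_range_add_finrank_ker φ
    omega

universe uk uV

theorem two_finrank_fixed_lt [Group.IsSolvable G] {p : ℕ} [Fact p.Prime] (hp : 3 < p) {x : G}
    (hx : orderOf x = p) (hgen : normalClosure ({x} : Set G) = ⊤) {k : Type uk} [Field k] {V : Type uV}
    [AddCommGroup V] [Module k V] [FiniteDimensional k V] [Nontrivial V] (ρ : G →* Module.End k V)
    (hinj : Function.Injective ρ) (hirr : NoInvariant ρ) :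
    2 * Module.finrank k (LinearMap.ker (ρ x - 1)) < Module.finrank k V := by
  set K := AlgebraicClosure k
  let τ : G →* Module.End K (K ⊗[k] V) :=
    (Module.End.baseChangeHom k K V).toMonoidHom.comp ρ
  have hdim : Module.finrank K (K ⊗[k] V) = Module.finrank k V := Module.finrank_baseChange
  haveI : Nontrivial (K ⊗[k] V) := Module.nontrivial_of_finrank_pos (R := K) (hdim ▸ Module.finrank_pos)
  have hτ : NoFixed τ := by
    intro N hNn hNc hNne
    haveI := hNn
    haveI := hNc
    have h0 := card_ne_zero_of_normal ρ hinj hirr N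
    refine ⟨fun h => h0 ?_, fun i => ?_⟩
    · rw [← map_natCast (algebraMap k K)] at h
      exact (map_eq_zero _).mp h
    have hsum : ∑ a : N, ρ (a : G) = 0 := by
      let U : Submodule k V :=
        { carrier := {v | ∀ a ∈ N, ρ a v = v}
          zero_mem' := fun a _ => map_zero _
          add_mem' := fun hu hv a ha => by rw [map_add, hu a ha, hv a ha]
          smul_mem' := fun c v hv a ha => by rw [map_smul, hv a ha] }
      rcases hirr U (fun g u hu a ha => by
        have h := hu (g⁻¹ * a * g) (by simpa using hNn.conj_mem a ha g⁻¹)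
        rw [← Module.End.mul_apply, ← map_mul, show a * g = g * (g⁻¹ * a * g) by group, map_mul,
          Module.End.mul_apply, h]) with h | h
      · refine LinearMap.ext fun v => (Submodule.eq_bot_iff U).mp h _ fun a ha => ?_
        rw [← Module.End.mul_apply, Finset.mul_sum]
        conv_rhs => rw [← Equiv.sum_comp (Equiv.mulLeft (⟨a, ha⟩ : N))]
        simp only [Equiv.coe_mulLeft, Subgroup.coe_mul, map_mul]
      · exfalso
        refine hNne ((Subgroup.eq_bot_iff_forall N).mpr fun a ha => hinj ?_)
        rw [map_one]
        exact LinearMap.ext fun v => (show v ∈ U by rw [h]; trivial) a ha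
    show ∑ a : N, Module.End.baseChangeHom k K V (ρ (a : G)) = 0
    rw [← map_sum, hsum, map_zero]
  have h := lt_of_noFixed hp hx hgen _ τ rfl hτ
  set F := LinearMap.ker (ρ x - 1)
  have hle : Module.finrank k F ≤ Module.finrank K (LinearMap.ker (τ x - 1)) := by
    rw [← Module.finrank_baseChange (R := K) (S := k) (M' := F)]
    refine LinearMap.finrank_le_finrank_of_injective
      (f := (F.subtype.baseChange K).codRestrict _ fun y => ?_) fun a b h => ?_
    · refine LinearMap.mem_ker.mpr ?_
      have h0 : (ρ x - 1) ∘ₗ F.subtype = 0 := LinearMap.ext fun u => LinearMap.mem_ker.mp u.2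
      show ((Module.End.baseChangeHom k K V) (ρ x) - 1) (F.subtype.baseChange K y) = 0
      rw [← map_one (Module.End.baseChangeHom k K V)]
      rw [show (Module.End.baseChangeHom k K V) (ρ x) - (Module.End.baseChangeHom k K V) 1 =
        (Module.End.baseChangeHom k K V) (ρ x - 1) from (map_sub (Module.End.baseChangeHom k K V) _ _).symm]
      show ((ρ x - 1).baseChange K) (F.subtype.baseChange K y) = 0
      rw [← LinearMap.comp_apply, ← LinearMap.baseChange_comp, h0, LinearMap.baseChange_zero]
      rfl
    · refine Module.Flat.lTensor_preserves_injective_linearMap F.subtype F.injective_subtype ?_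
      exact congrArg Subtype.val h
  omega

end Cfsg.Agent.FixedDim
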