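import Mathlib
import Cfsg.Agent.Lib.FixedDim.General
import Cfsg.Agent.Lib.Coprime.Commutator
import Cfsg.Agent.Lib.Coprime.Sylow
import Cfsg.Agent.Lib.Components.Fitting
import Cfsg.Agent.Lib.PGroup.Frattini

/-!
# Flavell: maximal solvable subgroups generated by two conjugates of a subgroup of order `p > 3`

`exists_twist`: in `Γ = U A` with `A = ⟨P, P^a⟩` some `⟨P, P^{ua}⟩` is all of `Γ`;
`le_centralizer_of_maximal`: for maximal `A`, `O_r(A)` centralises every `A`-invariant `q`-group, `q ≠ r`.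
-/

set_option autoImplicit false
set_option linter.style.haveILetI false

namespace Cfsg.Agent.FixedDim

open Subgroup
open scoped IsMulCommutative commutatorElement Pointwise

variable {p q r : ℕ}

theorem map_conj_le_iff {G : Type*} [Group G] {P S : Subgroup G} {a : G} :
    P.map (MulAut.conj a).toMonoidHom ≤ S ↔ ∀ y ∈ P, a * y * a⁻¹ ∈ S := by
  rw [map_le_iff_le_comap]; rfl

/-- The centraliser of `P` in the irreducible module `U` has less than square root order. -/
theorem sq_card_inf_centralizer_lt {Γ : Type*} [Group Γ] [Finite Γ] [Fact p.Prime] [hqf : Fact q.Prime] (hp : 3 < p)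
    {U A P : Subgroup Γ} [U.Normal] [IsMulCommutative U] (hUq : ∀ u ∈ U, u ^ q = 1) (hU : U ≠ ⊥)
    (hAs : Group.IsSolvable A)
    (hP : Nat.card P = p) {a : Γ} (ha : a ∈ A) (hgen : A = P ⊔ P.map (MulAut.conj a).toMonoidHom)
    (hirr : ∀ M : Subgroup Γ, M ≤ U → A ≤ normalizer (M : Set Γ) → M = ⊥ ∨ M = U)
    (hnc : ¬ A ≤ centralizer (U : Set Γ)) :
    Nat.card ↥(U ⊓ centralizer (P : Set Γ)) ^ 2 < Nat.card U := by
  classical
  have hPA : P ≤ A := hgen ▸ le_sup_left
  let φ : A →* MulAut U := MulAut.conjNormal.comp A.subtype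
  have hφ : ∀ (g : A) (u : U), ((φ g u : U) : Γ) = g * u * (g : Γ)⁻¹ := fun g u => rfl
  haveI := hAs
  haveI : Group.IsSolvable φ.range := Group.isSolvable_of_surjective φ.rangeRestrict_surjective
  obtain ⟨x, hx⟩ := exists_prime_orderOf_dvd_card' (G := P) p (by rw [hP])
  have hPx : P = zpowers (x : Γ) := by
    refine (eq_of_le_of_card_ge (zpowers_le.mpr x.2) ?_).symm
    rw [Nat.card_zpowers, orderOf_submonoid, hx, hP]
  set xA : A := ⟨x, hPA x.2⟩ with hxA
  have hcP : ∀ g : Γ, g ∈ centralizer (P : Set Γ) ↔ g * (x : Γ) = (x : Γ) * g := fun g =>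
    ⟨fun h => (mem_centralizer_iff.mp h _ x.2).symm, fun h => mem_centralizer_iff.mpr fun z hz => by
      obtain ⟨k, rfl⟩ := mem_zpowers_iff.mp (hPx.le hz)
      exact ((show Commute g (x : Γ) from h).zpow_right k).eq.symm⟩
  have hxfix : ∀ u : U, φ xA u = u ↔ (u : Γ) ∈ centralizer (P : Set Γ) := by
    intro u
    rw [hcP]
    constructor
    · intro h
      have h' : (x : Γ) * u * (x : Γ)⁻¹ = u := congrArg Subtype.val h
      exact (mul_inv_eq_iff_eq_mul.mp h').symm
    · intro h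
      refine Subtype.ext ?_
      show (x : Γ) * u * (x : Γ)⁻¹ = u
      rw [← h, mul_inv_cancel_right]
  -- the image of `x`
  set y : φ.range := φ.rangeRestrict xA
  have hy1 : y ≠ 1 := by
    intro h
    apply hnc
    have h1 : P ≤ centralizer (U : Set Γ) := le_centralizer_iff.mp fun u hu =>
      (hxfix ⟨u, hu⟩).mp (by rw [show φ xA = 1 from congrArg Subtype.val h]; rfl)
    rw [hgen, sup_le_iff]
    refine ⟨h1, map_conj_le_iff.mpr fun z hz => ?_⟩
    exact (inferInstance : (centralizer (U : Set Γ)).Normal).conj_mem z (h1 hz) a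
  have hy : orderOf y = p := orderOf_eq_prime
    (by rw [← map_pow, show xA ^ p = 1 from Subtype.ext (by
      rw [SubmonoidClass.coe_pow, ← hx, ← orderOf_submonoid x]; exact pow_orderOf_eq_one _), map_one]) hy1
  have hygen : normalClosure ({y} : Set φ.range) = ⊤ := by
    set N := (normalClosure ({y} : Set φ.range)).comap φ.rangeRestrict with hN
    haveI hNn : N.Normal := Normal.comap normalClosure_normal _
    have hxN : xA ∈ N := subset_normalClosure (Set.mem_singleton y)
    have hNtop : N.map A.subtype = A := by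
      refine le_antisymm (map_subtype_le N) ?_
      conv_lhs => rw [hgen]
      have hP' : P ≤ N.map A.subtype := by
        rw [hPx, zpowers_le]
        exact ⟨xA, hxN, rfl⟩
      refine sup_le hP' (map_conj_le_iff.mpr fun z hz => ?_)
      obtain ⟨n, hn, rfl⟩ := hP' hz
      have hc := hNn.conj_mem n hn (⟨a, ha⟩ : A)
      exact Subgroup.mem_map.mpr ⟨_, hc, by simp⟩
    rw [eq_top_iff]
    rintro ⟨_, g, rfl⟩ -
    obtain ⟨n, hn, hng⟩ : (g : Γ) ∈ N.map A.subtype := by rw [hNtop]; exact g.2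
    rw [Subtype.ext hng] at hn
    exact hn
  -- the module
  letI : Module (ZMod q) (Additive U) := AddCommGroup.zmodModule (n := q) fun u =>
    congrArg Additive.ofMul (Subtype.ext (hUq _ (Additive.toMul u).2) : (Additive.toMul u) ^ q = 1)
  haveI : Finite (Additive U) := inferInstanceAs (Finite U)
  let ρ : φ.range →* Module.End (ZMod q) (Additive U) :=
    { toFun := fun g => (MonoidHom.toAdditive ((g : MulAut U)).toMonoidHom).toZModLinearMap q
      map_one' := LinearMap.ext fun u => rfl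
      map_mul' := fun g h => LinearMap.ext fun u => rfl }
  have hρ : ∀ (g : φ.range) (u : Additive U),
      ρ g u = Additive.ofMul ((g : MulAut U) (Additive.toMul u)) := fun g u => rfl
  have hinj : Function.Injective ρ := fun g h e => Subtype.ext (MulEquiv.ext fun u =>
    congrArg Additive.toMul (LinearMap.congr_fun e (Additive.ofMul u)))
  have hNI : NoInvariant ρ := by
    intro S hS
    let M : Subgroup Γ :=
      { carrier := {g | ∃ h : g ∈ U, Additive.ofMul (⟨g, h⟩ : U) ∈ S}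
        one_mem' := ⟨one_mem U, S.zero_mem⟩
        mul_mem' := fun {g g'} ⟨h, hg⟩ ⟨h', hg'⟩ => ⟨mul_mem h h', S.add_mem hg hg'⟩
        inv_mem' := fun {g} ⟨h, hg⟩ => ⟨inv_mem h, S.neg_mem hg⟩ }
    have hMn : A ≤ normalizer (M : Set Γ) := by
      intro g hg
      have key : ∀ g ∈ A, ∀ m ∈ M, g * m * g⁻¹ ∈ M := fun g hg m ⟨h, hm⟩ =>
        ⟨(inferInstance : U.Normal).conj_mem m h g, hS (φ.rangeRestrict ⟨g, hg⟩) _ hm⟩
      refine mem_normalizer_iff.mpr fun m => ⟨key g hg m, fun h => ?_⟩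
      have := key g⁻¹ (inv_mem hg) _ h
      rwa [inv_inv, show g⁻¹ * (g * m * g⁻¹) * g = m by group] at this
    rcases hirr M (fun g hg => hg.1) hMn with h | h
    · refine Or.inl ((Submodule.eq_bot_iff S).mpr fun u hu => ?_)
      have : ((Additive.toMul u : U) : Γ) ∈ M := ⟨(Additive.toMul u).2, hu⟩
      rw [h, mem_bot] at this
      exact congrArg Additive.ofMul (Subtype.ext this : Additive.toMul u = 1)
    · refine Or.inr (eq_top_iff.mpr fun u _ => ?_)
      obtain ⟨_, hu⟩ : ((Additive.toMul u : U) : Γ) ∈ M := by rw [h]; exact (Additive.toMul u).2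
      exact hu
  haveI : Nontrivial (Additive U) := by
    have := (nontrivial_iff_ne_bot U).mpr hU
    exact inferInstanceAs (Nontrivial U)
  have hlt := two_finrank_fixed_lt hp hy hygen ρ hinj hNI
  have hcard : Nat.card ↥(U ⊓ centralizer (P : Set Γ)) = Nat.card (LinearMap.ker (ρ y - 1)) := by
    refine Nat.card_congr
      { toFun := fun u => ⟨Additive.ofMul ⟨u.1, u.2.1⟩, LinearMap.mem_ker.mpr (sub_eq_zero.mpr
          (congrArg Additive.ofMul ((hxfix ⟨u.1, u.2.1⟩).mpr u.2.2)))⟩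
        invFun := fun v => ⟨((Additive.toMul v.1 : U) : Γ), (Additive.toMul v.1).2, (hxfix _).mp
          (congrArg Additive.toMul (sub_eq_zero.mp (LinearMap.mem_ker.mp v.2 : (ρ y - 1) v.1 = 0)))⟩
        left_inv := fun u => rfl
        right_inv := fun v => rfl }
  rw [hcard, Module.natCard_eq_pow_finrank (K := ZMod q) (V := LinearMap.ker (ρ y - 1)),
    show Nat.card U = Nat.card (Additive U) from rfl,
    Module.natCard_eq_pow_finrank (K := ZMod q) (V := Additive U), Nat.card_zmod, ← pow_mul, mul_comm]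
  exact Nat.pow_lt_pow_right hqf.out.one_lt hlt

/-- In `Γ = U A` some `⟨P, P^{ua}⟩`, `u ∈ U`, is all of `Γ`. -/
theorem exists_twist {Γ : Type*} [Group Γ] [Finite Γ] [Fact p.Prime] [Fact q.Prime] (hp : 3 < p) {U A R P : Subgroup Γ}
    [U.Normal] [IsMulCommutative U] (hUq : ∀ u ∈ U, u ^ q = 1) (hU : U ≠ ⊥) (hAs : Group.IsSolvable A)
    (htop : A ⊔ U = ⊤) (hAU : A ⊓ U = ⊥) (hP : Nat.card P = p) {a : Γ} (ha : a ∈ A)
    (hgen : A = P ⊔ P.map (MulAut.conj a).toMonoidHom) (hRA : R ≤ A) (hAR : A ≤ normalizer (R : Set Γ))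
    (hcop : (Nat.card R).Coprime (Nat.card U)) (hRU : U ⊓ centralizer (R : Set Γ) = ⊥)
    (hirr : ∀ M : Subgroup Γ, M ≤ U → A ≤ normalizer (M : Set Γ) → M = ⊥ ∨ M = U) :
    ∃ u ∈ U, P ⊔ P.map (MulAut.conj (u * a)).toMonoidHom = ⊤ := by
  classical
  have hPA : P ≤ A := hgen ▸ le_sup_left
  have hPaA : P.map (MulAut.conj a).toMonoidHom ≤ A := hgen ▸ le_sup_right
  have hnc : ¬ A ≤ centralizer (U : Set Γ) := fun h => hU (by
    rw [eq_bot_iff, ← hRU]
    exact le_inf le_rfl (le_centralizer_iff.mp (hRA.trans h)))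
  have hlt := sq_card_inf_centralizer_lt hp hUq hU hAs hP ha hgen hirr hnc
  set C1 := U ⊓ centralizer (P : Set Γ) with hC1
  set C2 := U ⊓ centralizer ((P.map (MulAut.conj a).toMonoidHom : Subgroup Γ) : Set Γ) with hC2
  have hc2 : Nat.card C2 ≤ Nat.card C1 := by
    have hle : C2 ≤ C1.map (MulAut.conj a).toMonoidHom := by
      intro u hu
      refine ⟨a⁻¹ * u * a, Subgroup.mem_inf.mpr ⟨?_, mem_centralizer_iff.mpr fun z hz => ?_⟩, ?_⟩
      · simpa using (inferInstance : U.Normal).conj_mem u hu.1 a⁻¹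
      · have h := mem_centralizer_iff.mp hu.2 (a * z * a⁻¹) ⟨z, hz, rfl⟩
        calc z * (a⁻¹ * u * a) = a⁻¹ * ((a * z * a⁻¹) * u) * a := by group
          _ = a⁻¹ * (u * (a * z * a⁻¹)) * a := by rw [h]
          _ = a⁻¹ * u * a * z := by group
      · show a * (a⁻¹ * u * a) * a⁻¹ = u
        group
    refine (card_le_of_le hle).trans ?_
    rw [card_map_of_injective (MulEquiv.injective _)]
  obtain ⟨u, hu, hu'⟩ : ∃ u ∈ U, ∀ c ∈ C1, ∀ d ∈ C2, u ≠ c * d := by
    by_contra hno
    push Not at hno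
    have : Nat.card U ≤ Nat.card (C1 × C2) := by
      refine Nat.card_le_card_of_surjective
        (fun z : C1 × C2 => (⟨(z.1 : Γ) * (z.2 : Γ), U.mul_mem z.1.2.1 z.2.2.1⟩ : U)) fun v => ?_
      obtain ⟨c, hc, d, hd, e⟩ := hno v v.2
      exact ⟨(⟨c, hc⟩, ⟨d, hd⟩), Subtype.ext e.symm⟩
    rw [Nat.card_prod] at this
    have := this.trans (Nat.mul_le_mul_left _ hc2)
    rw [pow_two] at hlt
    omega
  refine ⟨u, hu, ?_⟩
  by_contra hB
  set B := P ⊔ P.map (MulAut.conj (u * a)).toMonoidHom with hBdef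
  have hBU : B ⊔ U = ⊤ := by
    rw [eq_top_iff, ← htop, sup_le_iff]
    refine ⟨?_, le_sup_right⟩
    rw [hgen]
    refine sup_le (le_sup_left.trans le_sup_left) (map_conj_le_iff.mpr fun z hz => ?_)
    have h1 : (u * a) * z * (u * a)⁻¹ ∈ B :=
      (map_conj_le_iff (S := B)).mp le_sup_right z hz
    rw [show a * z * a⁻¹ = u⁻¹ * ((u * a) * z * (u * a)⁻¹) * u by group]
    exact mul_mem (mul_mem (mem_sup_right (inv_mem hu)) (mem_sup_left h1)) (mem_sup_right hu)
  have hBU0 : B ⊓ U = ⊥ := by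
    have hn : (B ⊓ U).Normal := by
      rw [← normalizer_eq_top_iff, eq_top_iff, ← hBU, sup_le_iff]
      constructor
      · exact Coprime.le_normalizer_inf_of_le le_normalizer (by rw [normalizer_eq_top]; exact le_top)
      · intro v hv
        refine mem_normalizer_iff.mpr fun m => ?_
        have key : ∀ m ∈ U, v * m * v⁻¹ = m := fun m hm => by
          rw [show v * m = m * v from congrArg Subtype.val (mul_comm' (⟨v, hv⟩ : U) ⟨m, hm⟩), mul_inv_cancel_right]
        constructor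
        · intro hm; rw [key m hm.2]; exact hm
        · intro hm
          have hmU : m ∈ U := by
            have := (inferInstance : U.Normal).conj_mem _ hm.2 v⁻¹
            simpa [mul_assoc] using this
          rwa [key m hmU] at hm
    refine (hirr _ inf_le_right (by rw [normalizer_eq_top_iff.mpr hn]; exact le_top)).resolve_right fun h => hB ?_
    rw [← top_le_iff, ← hBU]
    exact sup_le le_rfl (h.symm.le.trans inf_le_left)
  set RB := B ⊓ (R ⊔ U) with hRB
  have hRUn : (R ⊔ U).Normal := by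
    rw [← normalizer_eq_top_iff, eq_top_iff, ← htop, sup_le_iff]
    refine ⟨fun g hg => Coprime.mem_normalizer_of_conj_smul_eq ?_, le_sup_right.trans le_normalizer⟩
    rw [Subgroup.smul_sup, Coprime.conj_smul_eq_self_of_mem (hAR hg),
      Coprime.conj_smul_eq_self_of_mem (show g ∈ normalizer (U : Set Γ) by rw [normalizer_eq_top]; trivial)]
  have hRBU : RB ⊔ U = R ⊔ U := by
    refine le_antisymm (sup_le inf_le_right le_sup_right) fun z hz => ?_
    obtain ⟨b, hb, v, hv, rfl⟩ := mem_sup_of_normal_right.mp (show z ∈ B ⊔ U by rw [hBU]; trivial)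
    refine mul_mem (mem_sup_left (Subgroup.mem_inf.mpr ⟨hb, ?_⟩)) (mem_sup_right hv)
    have := mul_mem hz (mem_sup_right (inv_mem hv) : v⁻¹ ∈ R ⊔ U)
    rwa [mul_inv_cancel_right] at this
  have hcardRB : Nat.card RB = Nat.card R := by
    have h1 := Coprime.card_sup_of_le_normalizer (H := RB) (N := U) (by rw [normalizer_eq_top]; exact le_top)
      (le_bot_iff.mp (hBU0 ▸ inf_le_inf_right _ inf_le_left))
    have h2 := Coprime.card_sup_of_le_normalizer (H := R) (N := U) (by rw [normalizer_eq_top]; exact le_top)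
      (le_bot_iff.mp (hAU ▸ inf_le_inf_right _ hRA))
    rw [hRBU] at h1
    exact Nat.eq_of_mul_eq_mul_right Nat.card_pos (h1.symm.trans h2)
  obtain ⟨w, hw, hwR⟩ := Coprime.exists_conj_eq_of_le_sup (N := U) (H := R) (K := RB)
    (by rw [normalizer_eq_top]; exact le_top) inf_le_right hcardRB hcop
    (Or.inl (Group.isSolvable_of_comm fun x y => mul_comm' x y))
  have hkey : ∀ b ∈ B, w⁻¹ * b * w ∈ A := by
    intro b hb
    have hbn : b ∈ normalizer (RB : Set Γ) :=
      (Coprime.le_normalizer_inf_of_le le_normalizer (by rw [normalizer_eq_top_iff.mpr hRUn]; exact le_top)) hb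
    have hn : w⁻¹ * b * w ∈ normalizer (R : Set Γ) := by
      refine Coprime.mem_normalizer_of_conj_smul_eq ?_
      rw [← Coprime.conj_smul_smul, hwR, ← Coprime.conj_smul_smul, Coprime.conj_smul_eq_self_of_mem hbn,
        ← hwR, Coprime.conj_smul_smul, inv_mul_cancel, map_one, one_smul]
    obtain ⟨a₁, ha₁, v, hv, e⟩ := mem_sup_of_normal_right.mp (show w⁻¹ * b * w ∈ A ⊔ U by rw [htop]; trivial)
    have hvn : v ∈ normalizer (R : Set Γ) := by
      have := mul_mem (inv_mem (hAR ha₁)) hn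
      rwa [← e, inv_mul_cancel_left] at this
    have hv1 : v = 1 := by
      refine mem_bot.mp (hRU ▸ Subgroup.mem_inf.mpr ⟨hv, mem_centralizer_iff.mpr fun g hg => ?_⟩)
      have h1 : v * g * v⁻¹ * g⁻¹ ∈ R ⊓ U := Subgroup.mem_inf.mpr
        ⟨mul_mem ((mem_normalizer_iff.mp hvn g).mp hg) (inv_mem hg), by
          rw [show v * g * v⁻¹ * g⁻¹ = v * (g * v⁻¹ * g⁻¹) by group]
          exact mul_mem hv ((inferInstance : U.Normal).conj_mem _ (inv_mem hv) g)⟩
      rw [show R ⊓ U = ⊥ from le_bot_iff.mp (hAU ▸ inf_le_inf_right _ hRA), mem_bot] at h1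
      exact (mul_inv_eq_iff_eq_mul.mp (mul_inv_eq_one.mp h1)).symm
    rw [← e, hv1, mul_one]; exact ha₁
  have hcom : ∀ (t : Γ), t ∈ U → ∀ z ∈ A, t * z * t⁻¹ ∈ A → Commute z t := by
    intro t ht z hz htz
    have h1 : t * z * t⁻¹ * z⁻¹ ∈ A ⊓ U := Subgroup.mem_inf.mpr ⟨mul_mem htz (inv_mem hz), by
      rw [show t * z * t⁻¹ * z⁻¹ = t * (z * t⁻¹ * z⁻¹) by group]
      exact mul_mem ht ((inferInstance : U.Normal).conj_mem _ (inv_mem ht) z)⟩
    rw [hAU, mem_bot] at h1
    exact (mul_inv_eq_iff_eq_mul.mp (mul_inv_eq_one.mp h1)).symm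
  have hw1 : w ∈ C1 := Subgroup.mem_inf.mpr ⟨hw, mem_centralizer_iff.mpr fun z hz => by
    have h := hcom w⁻¹ (inv_mem hw) z (hPA hz) (by simpa using hkey z ((le_sup_left : P ≤ B) hz))
    exact (Commute.inv_right_iff.mp h).eq⟩
  have hw2 : w⁻¹ * u ∈ C2 := Subgroup.mem_inf.mpr ⟨mul_mem (inv_mem hw) hu, mem_centralizer_iff.mpr fun z hz => by
    obtain ⟨z₀, hz₀, rfl⟩ := hz
    refine (hcom (w⁻¹ * u) (mul_mem (inv_mem hw) hu) (a * z₀ * a⁻¹) (hPaA ⟨z₀, hz₀, rfl⟩) ?_).eq
    have h := hkey _ ((map_conj_le_iff (S := B)).mp le_sup_right z₀ hz₀)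
    rw [show w⁻¹ * u * (a * z₀ * a⁻¹) * (w⁻¹ * u)⁻¹ = w⁻¹ * (u * a * z₀ * (u * a)⁻¹) * w by group]
    exact h⟩
  exact hu' w hw1 _ hw2 (by group)

/-- An element normalising `U` normalises the image of a characteristic subgroup of `U`. -/
theorem le_normalizer_map_char {G : Type*} [Group G] {U A : Subgroup G} (hA : A ≤ normalizer (U : Set G))
    (K : Subgroup U) [hK : K.Characteristic] : A ≤ normalizer ((K.map U.subtype : Subgroup G) : Set G) := by
  intro g hg
  refine Coprime.mem_normalizer_of_conj_smul_eq ?_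
  show (K.map U.subtype).map (MulAut.conj g).toMonoidHom = _
  have h := characteristic_iff_map_eq.mp hK (U.normalizerMonoidHom ⟨g, hA hg⟩)
  conv_rhs => rw [← h]
  rw [map_map, map_map]
  congr 1

/-- For maximal `A`, `O_r(A)` centralises every `A`-invariant `q`-group, `q ≠ r`. -/
theorem le_centralizer_of_maximal {G : Type*} [Group G] [Finite G] [Fact p.Prime] [Fact q.Prime] [Fact r.Prime]
    (hp : 3 < p) {P A : Subgroup G} (hP : Nat.card P = p)
    (hAs : Group.IsSolvable A) {a : G} (ha : a ∈ A) (hgen : A = P ⊔ P.map (MulAut.conj a).toMonoidHom)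
    (hmax : ∀ B : Subgroup G, A ≤ B → Group.IsSolvable ↥B →
      (∃ b ∈ B, B = P ⊔ P.map (MulAut.conj b).toMonoidHom) → B = A)
    (hqr : q ≠ r) {V : Subgroup G} (hV : IsPGroup q V) (hAV : A ≤ normalizer (V : Set G)) :
    (pCore r A).map A.subtype ≤ centralizer (V : Set G) := by
  classical
  set R := (pCore r A).map A.subtype with hR
  have hRA : R ≤ A := map_subtype_le _
  have hRp : IsPGroup r R := (Components.isPGroup_pCore' r).map _
  have hAR : A ≤ normalizer (R : Set G) := by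
    haveI := Components.pCore_normal' (G := A) r
    have := le_normalizer_map (H := pCore r A) A.subtype
    rwa [normalizer_eq_top, ← MonoidHom.range_eq_map, range_subtype] at this
  by_contra hne
  obtain ⟨U, ⟨hUV, hAU, hUnc⟩, hmin⟩ := Set.Finite.exists_minimal
    (s := {U : Subgroup G | U ≤ V ∧ A ≤ normalizer (U : Set G) ∧ ¬ R ≤ centralizer (U : Set G)})
    (Set.toFinite _) ⟨V, le_rfl, hAV, hne⟩
  have hUq : IsPGroup q U := hV.to_le hUV
  obtain ⟨i, hi⟩ := hUq.exists_card_eq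
  obtain ⟨j, hj⟩ := hRp.exists_card_eq
  have hcop : (Nat.card R).Coprime (Nat.card U) := by
    rw [hi, hj]; exact Nat.Coprime.pow _ _ ((Nat.coprime_primes Fact.out Fact.out).mpr (Ne.symm hqr))
  haveI hUnil : Group.IsNilpotent U := hUq.isNilpotent
  have hRU : R ≤ normalizer (U : Set G) := hRA.trans hAU
  -- `U = [U, R]`
  have hUR : ⁅U, R⁆ = U := by
    have hle : ⁅U, R⁆ ≤ U := Coprime.commutator_le_left_of_le_normalizer hRU
    refine le_antisymm hle (hmin ⟨hle.trans hUV, fun g hg => ?_, fun h => hUnc ?_⟩ hle)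
    · refine Coprime.mem_normalizer_of_conj_smul_eq ?_
      show (⁅U, R⁆ : Subgroup G).map (MulAut.conj g).toMonoidHom = ⁅U, R⁆
      rw [map_commutator, show U.map (MulAut.conj g).toMonoidHom = U from
        Coprime.conj_smul_eq_self_of_mem (hAU hg), show R.map (MulAut.conj g).toMonoidHom = R from
        Coprime.conj_smul_eq_self_of_mem (hAR hg)]
    · exact Coprime.le_centralizer_of_commutator_le_centralizer hRU hcop (Or.inr inferInstance) h
  set Φ := (frattini U).map U.subtype with hΦ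
  have hΦU : Φ ≤ U := map_subtype_le _
  haveI := frattini_characteristic (G := U)
  set K := A ⊔ U with hK
  have hKU : K ≤ normalizer (U : Set G) := sup_le hAU le_normalizer
  have hKΦ : K ≤ normalizer (Φ : Set G) := le_normalizer_map_char hKU (frattini U)
  set W := Φ.subgroupOf K with hW
  haveI hWn : W.Normal := Coprime.normal_subgroupOf_of_le_normalizer (H := Φ) (P := K) hKΦ
  set π := QuotientGroup.mk' W with hπ
  have hπs := QuotientGroup.mk'_surjective W
  have hπ1 : ∀ g : K, π g = 1 ↔ (g : G) ∈ Φ := fun g => (QuotientGroup.eq_one_iff g).trans mem_subgroupOf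
  set U' := U.subgroupOf K with hU'
  set A' := A.subgroupOf K with hA'
  set R' := R.subgroupOf K with hR'
  set P' := P.subgroupOf K with hP'
  have hUK : U ≤ K := le_sup_right
  have hAK : A ≤ K := le_sup_left
  haveI hU'n : U'.Normal := Coprime.normal_subgroupOf_of_le_normalizer (H := U) (P := K) hKU
  set Ub := U'.map π with hUb
  haveI : Ub.Normal := hU'n.map π hπs
  have hUPhi : ∀ g (hg : g ∈ U) h (hh : h ∈ U), ⁅g, h⁆ ∈ Φ ∧ g ^ q ∈ Φ := by
    intro g hg h hh
    have hm : ⁅(⟨g, hg⟩ : U), (⟨h, hh⟩ : U)⁆ ∈ frattini U := PGroup.commutator_le_frattini hUq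
      (_root_.commutator_def (G := U) ▸ commutator_mem_commutator (mem_top (⟨g, hg⟩ : U)) (mem_top (⟨h, hh⟩ : U)))
    exact ⟨Subgroup.mem_map.mpr ⟨_, hm, map_commutatorElement U.subtype _ _⟩,
      Subgroup.mem_map.mpr ⟨_, PGroup.pow_mem_frattini hUq ⟨g, hg⟩, rfl⟩⟩
  haveI : IsMulCommutative Ub := PGroup.isMulCommutative_of_forall <| by
    rintro _ ⟨g, hg, rfl⟩ _ ⟨h, hh, rfl⟩
    rw [← commutatorElement_eq_one_iff_mul_comm, ← map_commutatorElement, hπ1]
    exact (hUPhi g hg h hh).1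
  have hUbq : ∀ u ∈ Ub, u ^ q = 1 := by
    rintro _ ⟨g, hg, rfl⟩
    rw [← map_pow, hπ1]
    exact (hUPhi g hg g hg).2
  -- lifting subgroups of `Ub`
  have hΦle : ∀ S : Subgroup G, U ≤ S ⊔ Φ → S ≤ K → (∀ s ∈ S, s ∈ normalizer (Φ : Set G)) → U ≤ S := by
    intro S hS _ hSn
    have htop : (U ⊓ S).subgroupOf U ⊔ frattini U = ⊤ := by
      refine top_unique fun g _ => ?_
      obtain ⟨s, hs, f, hf, e⟩ := (Coprime.mem_sup_iff_of_le_normalizer (H := S) (N := Φ) hSn).mp (hS g.2)
      obtain ⟨f', hf', rfl⟩ := hf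
      have hsU : s ∈ U := by
        have e' : s * (f' : G) = g := e
        have := mul_mem g.2 (inv_mem f'.2)
        rwa [← e', mul_inv_cancel_right] at this
      rw [show g = (⟨s, hsU⟩ : U) * f' from Subtype.ext e.symm]
      exact mul_mem (mem_sup_left (Subgroup.mem_inf.mpr ⟨hsU, hs⟩)) (mem_sup_right hf')
    have := frattini_nongenerating htop
    exact fun g hg => (show (⟨g, hg⟩ : U) ∈ (U ⊓ S).subgroupOf U by rw [this]; trivial).2
  have hUne : Ub ≠ ⊥ := by
    intro h
    apply hUnc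
    refine Coprime.le_centralizer_of_frattini hRU ?_ fun g hg u hu => ?_
    · exact hcop.coprime_dvd_right (card_subgroup_dvd_card _)
    · have hgu : g * u * g⁻¹ * u⁻¹ ∈ U := mul_mem ((mem_normalizer_iff.mp (hRU hg) u).mp hu) (inv_mem hu)
      exact (hπ1 ⟨_, hUK hgu⟩).mp (mem_bot.mp (h ▸ mem_map_of_mem π (show (⟨_, hUK hgu⟩ : K) ∈ U' from hgu)))
  have hRb : Ub ⊓ centralizer ((R'.map π : Subgroup (K ⧸ W)) : Set (K ⧸ W)) = ⊥ := by
    have hUR' : ⁅U', R'⁆ = U' := by
      refine map_injective K.subtype_injective ?_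
      rw [map_commutator, map_subgroupOf_eq_of_le hUK, map_subgroupOf_eq_of_le (hRA.trans hAK), hUR]
    have hcomm : ⁅Ub, R'.map π⁆ = Ub := by rw [hUb, ← map_commutator, hUR']
    have hcop' : (Nat.card ↥(R'.map π)).Coprime (Nat.card Ub) := by
      refine (hcop.coprime_dvd_left ?_).coprime_dvd_right ?_
      · exact (card_map_dvd _ _).trans (dvd_of_eq (Coprime.card_subgroupOf (hRA.trans hAK)))
      · exact (card_map_dvd _ _).trans (dvd_of_eq (Coprime.card_subgroupOf hUK))
    have h := Coprime.inf_centralizer_inf_commutator_eq_bot (A := R'.map π) (V := Ub)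
      (by rw [normalizer_eq_top]; exact le_top) hcop'
    rw [hcomm] at h
    exact le_bot_iff.mp (h ▸ le_inf le_rfl inf_le_left)
  have hirr : ∀ M : Subgroup (K ⧸ W), M ≤ Ub → A'.map π ≤ normalizer (M : Set (K ⧸ W)) → M = ⊥ ∨ M = Ub := by
    intro M hM hMn
    set M₀ := (M.comap π ⊓ U').map K.subtype with hM₀
    have hM₀U : M₀ ≤ U := by rintro _ ⟨m, hm, rfl⟩; exact hm.2
    have hM₀n : A ≤ normalizer (M₀ : Set G) := by
      intro g hg
      have key : ∀ g ∈ A, ∀ m ∈ M₀, g * m * g⁻¹ ∈ M₀ := by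
        rintro g hg _ ⟨m, hm, rfl⟩
        refine ⟨⟨g, hAK hg⟩ * m * ⟨g, hAK hg⟩⁻¹, Subgroup.mem_inf.mpr ⟨?_, hU'n.conj_mem m hm.2 _⟩, rfl⟩
        show π _ ∈ M
        rw [map_mul, map_mul, map_inv]
        exact (mem_normalizer_iff.mp (hMn (mem_map_of_mem π (show (⟨g, hAK hg⟩ : K) ∈ A' from hg))) _).mp hm.1
      refine mem_normalizer_iff.mpr fun m => ⟨key g hg m, fun h => ?_⟩
      have := key g⁻¹ (inv_mem hg) _ h
      rwa [inv_inv, show g⁻¹ * (g * m * g⁻¹) * g = m by group] at this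
    by_cases hc : R ≤ centralizer (M₀ : Set G)
    · refine Or.inl (le_bot_iff.mp (hRb ▸ le_inf hM fun m hm => ?_))
      obtain ⟨g, hg, rfl⟩ := hM hm
      refine mem_centralizer_iff.mpr ?_
      rintro _ ⟨s, hs, rfl⟩
      rw [← map_mul, ← map_mul]
      congr 1
      exact Subtype.ext (mem_centralizer_iff.mp (hc hs) (g : G) ⟨g, ⟨hm, hg⟩, rfl⟩).symm
    · refine Or.inr (le_antisymm hM ?_)
      have hUM := hmin ⟨hM₀U.trans hUV, hM₀n, hc⟩ hM₀U
      rintro _ ⟨g, hg, rfl⟩
      obtain ⟨m, hm, e⟩ := hUM (show (g : G) ∈ U from hg)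
      rw [← Subtype.ext e]; exact hm.1
  have hAUb : A'.map π ⊓ Ub = ⊥ := by
    refine (hirr _ inf_le_right (Coprime.le_normalizer_inf_of_le le_normalizer (by rw [normalizer_eq_top]; exact le_top))).resolve_right fun h => ?_
    have hUA : U ≤ A := by
      refine hΦle A (fun g hg => ?_) hAK fun s hs => hKΦ (hAK hs)
      obtain ⟨b, hb, e⟩ := (h.symm.le.trans inf_le_left) (mem_map_of_mem π (show (⟨g, hUK hg⟩ : K) ∈ U' from hg))
      have h1 := (hπ1 (b⁻¹ * ⟨g, hUK hg⟩)).mp (by rw [map_mul, map_inv, e, inv_mul_cancel])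
      rw [show g = (b : G) * ((b⁻¹ * ⟨g, hUK hg⟩ : K) : G) by simp]
      exact mul_mem (mem_sup_left hb) (mem_sup_right h1)
    apply hUnc
    haveI : (U.subgroupOf A).Normal := Coprime.normal_subgroupOf_of_le_normalizer hAU
    have hUp : U.subgroupOf A ≤ pCore q A :=
      le_sSup ⟨inferInstance, hUq.comap_of_injective _ A.subtype_injective⟩
    intro g hg
    refine mem_centralizer_iff.mpr fun u hu => ?_
    obtain ⟨g', hg', rfl⟩ := hg
    exact congrArg Subtype.val (commute_of_normal_of_disjoint _ _ (Components.pCore_normal' q)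
      (Components.pCore_normal' r) (IsPGroup.disjoint_of_ne q r hqr _ _ (Components.isPGroup_pCore' q)
        (Components.isPGroup_pCore' r)) (⟨u, hUA hu⟩ : A) g' (hUp hu) hg').eq
  have htop : A'.map π ⊔ Ub = ⊤ := by
    rw [hUb, ← Subgroup.map_sup, ← map_top_of_surjective π hπs]
    congr 1
    refine map_injective K.subtype_injective ?_
    rw [Subgroup.map_sup, map_subgroupOf_eq_of_le hAK, map_subgroupOf_eq_of_le hUK, ← MonoidHom.range_eq_map,
      range_subtype]
  have hPK : P ≤ K := (hgen ▸ le_sup_left : P ≤ A).trans hAK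
  have hPb : Nat.card ↥(P'.map π) = p := by
    have hd : Nat.card ↥(P'.map π) ∣ p := (card_map_dvd _ _).trans (dvd_of_eq ((Coprime.card_subgroupOf hPK).trans hP))
    refine ((Nat.dvd_prime Fact.out).mp hd).resolve_left fun h => ?_
    -- otherwise `A` lies in `Φ`
    have hPΦ : P ≤ Φ := fun g hg => (hπ1 ⟨g, hPK hg⟩).mp (mem_bot.mp ((Subgroup.card_eq_one.mp h) ▸
      mem_map_of_mem π (show (⟨g, hPK hg⟩ : K) ∈ P' from hg)))
    have hAΦ : A ≤ Φ := by
      conv_lhs => rw [hgen]
      exact sup_le hPΦ (map_conj_le_iff.mpr fun z hz => (mem_normalizer_iff.mp (hKΦ (hAK ha)) z).mp (hPΦ hz))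
    have h1 : R = ⊥ := by
      refine le_bot_iff.mp (le_trans (le_inf le_rfl (hRA.trans (hAΦ.trans hΦU))) ?_)
      exact (Coprime.disjoint_of_coprime_card hcop).le
    exact hUnc (h1 ▸ bot_le)
  have hAs' : Group.IsSolvable ↥(A'.map π) :=
    Coprime.isSolvable_map π A' (Coprime.isSolvable_subgroupOf hAK hAs)
  have hgen' : A'.map π = P'.map π ⊔ (P'.map π).map (MulAut.conj (π ⟨a, hAK ha⟩)).toMonoidHom := by
    have e1 : A' = P' ⊔ P'.map (MulAut.conj (⟨a, hAK ha⟩ : K)).toMonoidHom := by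
      refine map_injective K.subtype_injective ?_
      rw [Subgroup.map_sup, map_subgroupOf_eq_of_le hAK, map_map,
        show K.subtype.comp (MulAut.conj (⟨a, hAK ha⟩ : K)).toMonoidHom
          = (MulAut.conj a).toMonoidHom.comp K.subtype from MonoidHom.ext fun z => rfl,
        ← map_map, map_subgroupOf_eq_of_le hPK]
      exact hgen
    conv_lhs => rw [e1, Subgroup.map_sup, map_map]
    rw [map_map]
    congr 2
    all_goals exact MonoidHom.ext fun z => by simp
  obtain ⟨ub, hub, hBtop⟩ := exists_twist (p := p) (q := q) (U := Ub) (A := A'.map π) (R := R'.map π)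
    (P := P'.map π) hp hUbq hUne hAs' htop hAUb hPb (mem_map_of_mem π (show (⟨a, hAK ha⟩ : K) ∈ A' from ha))
    hgen' (map_mono fun g hg => hRA hg) (fun g hg => by
      obtain ⟨g', hg', rfl⟩ := hg
      refine le_normalizer_map π (mem_map_of_mem π (show g' ∈ normalizer (R' : Set K) from ?_))
      refine mem_normalizer_iff.mpr fun m => ?_
      exact mem_normalizer_iff.mp (hAR hg') (m : G))
    ((hcop.coprime_dvd_left ((card_map_dvd _ _).trans (dvd_of_eq (Coprime.card_subgroupOf (hRA.trans hAK))))).coprime_dvd_right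
      ((card_map_dvd _ _).trans (dvd_of_eq (Coprime.card_subgroupOf hUK)))) hRb hirr
  obtain ⟨u₀, hu₀, rfl⟩ := hub
  set b : K := u₀ * ⟨a, hAK ha⟩
  set B := P ⊔ P.map (MulAut.conj (b : G)).toMonoidHom with hB
  have hBK : B ≤ K := sup_le hPK (map_conj_le_iff.mpr fun z hz => mul_mem (mul_mem b.2 (hPK hz)) (inv_mem b.2))
  have hKB : K ≤ B ⊔ Φ := by
    intro g hg
    have h1 : π ⟨g, hg⟩ ∈ (B.subgroupOf K).map π := by
      refine (show (⊤ : Subgroup (K ⧸ W)) ≤ _ from ?_) (mem_top _)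
      rw [← hBtop, ← map_mul]
      refine sup_le (map_mono fun z hz => (le_sup_left : P ≤ B) hz) ?_
      rw [map_map, map_le_iff_le_comap]
      intro z hz
      refine ⟨b * z * b⁻¹, (map_conj_le_iff (S := B)).mp le_sup_right z hz, ?_⟩
      simp [b, map_mul, map_inv, mul_assoc]
    obtain ⟨s, hs, e⟩ := h1
    have h2 := (hπ1 (s⁻¹ * ⟨g, hg⟩)).mp (by rw [map_mul, map_inv, e, inv_mul_cancel])
    rw [show g = (s : G) * ((s⁻¹ * ⟨g, hg⟩ : K) : G) by simp]
    exact mul_mem (mem_sup_left hs) (mem_sup_right h2)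
  have hUB : U ≤ B := hΦle B (hUK.trans hKB) hBK fun s hs => hKΦ (hBK hs)
  have hBeq : B = K := le_antisymm hBK (hKB.trans (sup_le le_rfl (hΦU.trans hUB)))
  have hKs : Group.IsSolvable K := by
    haveI := hAs
    haveI : Group.IsSolvable ↥U' := Coprime.isSolvable_subgroupOf hUK inferInstance
    refine Group.isSolvable_of_ker_le_range (U'.subtype) (QuotientGroup.mk' U') (by rw [QuotientGroup.ker_mk', range_subtype]) (hG'' := ?_)
    refine Group.isSolvable_of_surjective (f := (QuotientGroup.mk' U').comp (inclusion hAK)) fun y => ?_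
    obtain ⟨g, rfl⟩ := QuotientGroup.mk'_surjective U' y
    obtain ⟨s, hs, t, ht, e⟩ := (Coprime.mem_sup_iff_of_le_normalizer hAU).mp g.2
    refine ⟨⟨s, hs⟩, ?_⟩
    refine QuotientGroup.eq.mpr ?_
    show (s⁻¹ * (g : G)) ∈ U
    rw [← e, inv_mul_cancel_left]; exact ht
  have hKA : K = A := hmax K hAK hKs ⟨b, b.2, hBeq.symm⟩
  have hUA' : Ub ≤ A'.map π := map_mono fun g hg => by
    show (g : G) ∈ A
    exact hKA.le g.2
  exact hUne (le_bot_iff.mp (hAUb ▸ le_inf hUA' le_rfl))

end Cfsg.Agent.FixedDim
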